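import Cfsg.Agent.Lib.KInf.Degree
import Cfsg.Agent.Lib.Techniques.Invariance
import Cfsg.Agent.S1972

/-!
The K-infinity subgroups control transfer for `p ≥ 5`.
-/

set_option autoImplicit false
set_option linter.unusedSectionVars false

namespace CfsgLib.KInf

open Cfsg Subgroup CfsgLib.Techniques
open scoped commutatorElement

universe u

variable {G : Type u} [Group G] [Finite G] {p : ℕ} [Fact p.Prime]

theorem controlsTransfer_of_sections {W : ∀ (Q : Type u) [Group Q], Subgroup Q} (hW : IsCharPFunctor.{u} p W)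
    (h : ∀ (K R : Subgroup G) [_hR : (R.subgroupOf K).Normal],
      ControlsTransferIn p (inducedFunctor (G := (↥K ⧸ R.subgroupOf K)) W) ⊤) :
    ControlsTransferIn p (inducedFunctor (G := G) W) ⊤ := by
  have h𝓦 : ∀ V ∈ ({W} : Set (∀ (Q : Type u) [Group Q], Subgroup Q)), IsCharPFunctor.{u} p V :=
    fun V hV => by rw [Set.mem_singleton_iff] at hV; subst hV; exact hW
  refine (sectionsSatisfy_of_quotients
    (Pr := fun X _ => ControlsTransferIn p (inducedFunctor (G := X) W) ⊤) ?_ fun K R hR => h K R).self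
  intro Y Z _ _ _ _ e hY
  rw [← familyControlsTransfer_singleton] at hY ⊢
  have := familyTransfer_congr (𝓦 := {W}) h𝓦 e (by rwa [indFam, Set.image_singleton])
  rwa [indFam, Set.image_singleton] at this

/-- The transfer equality holds for every Sylow subgroup. -/
theorem transfer_eq_of_controls {W : Subgroup G → Subgroup G} (hW : IsConjugacyFunctor p W)
    (h : ControlsTransferIn p W ⊤) (S : Sylow p G) :
    (S : Subgroup G) ⊓ commutator G = (S : Subgroup G) ⊓
      ⁅normalizer (W (S : Subgroup G) : Set G), normalizer (W (S : Subgroup G) : Set G)⁆ := by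
  obtain ⟨T, -, hTp, hTd, hT⟩ := h
  obtain ⟨k, -, hk⟩ := (sylIn_top S).exists_conj_eq (T' := T) ⟨le_top, hTp, hTd⟩
  have htr := congrArg (cj k) hT
  have hktop : cj k (⊤ : Subgroup G) = ⊤ := cj_eq_self_of_mem (mem_top k)
  simp only [top_inf_eq, cj_inf, cj_commutator, cj_normalizer, ← functor_cj hW hTp, hk, hktop] at htr
  rwa [← commutator_def] at htr

theorem controlsTransfer_of_degree {W : ∀ (Q : Type u) [Group Q], Subgroup Q} (hW : IsCharPFunctor.{u} p W)
    (hp : 5 ≤ p)
    (h : ∀ (X : Type u) [Group X] [Finite X] (T : Sylow p X), ¬ (inducedFunctor (G := X) W (T : Subgroup X)).Normal →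
      ∃ g : X, g ∈ (T : Subgroup X) ∧ g ∉ pCore p X ∧
        ∀ U V : Subgroup X, IsChiefFactor U V → U ≤ pCore p X → iterCommutator U (zpowers g) 4 ≤ V) :
    ControlsTransferIn p (inducedFunctor (G := G) W) ⊤ := by
  refine controlsTransfer_of_sections hW (Cfsg.Agent.S1972.result W hW fun K R hR _ T hT => ?_)
  obtain ⟨g, h1, h2, h3⟩ := h _ T hT
  refine ⟨g, h1, h2, fun U V hUV hU => ?_⟩
  haveI := hUV.2.2.1
  exact iterCommutator_antitone_le (show 4 ≤ p - 1 by omega) (h3 U V hUV hU)

theorem kInfLower_controlsTransfer (hp : 5 ≤ p) :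
    ControlsTransferIn p (inducedFunctor (G := G) Cfsg.kInfLower.{u}) ⊤ :=
  controlsTransfer_of_degree (isCharPFunctor_kInfLower p) hp fun X _ _ T hT => by
    obtain ⟨g, h1, h2, h3, -⟩ := exists_degree_four T (Or.inl hT)
    exact ⟨g, h1, h2, h3⟩

theorem kInfUpper_controlsTransfer (hp : 5 ≤ p) :
    ControlsTransferIn p (inducedFunctor (G := G) Cfsg.kInfUpper.{u}) ⊤ :=
  controlsTransfer_of_degree (isCharPFunctor_kInfUpper p) hp fun X _ _ T hT => by
    obtain ⟨g, h1, h2, h3, -⟩ := exists_degree_four T (Or.inr hT)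
    exact ⟨g, h1, h2, h3⟩

end CfsgLib.KInf
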