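import Cfsg.Agent.Lib.KInf.Degree
import Cfsg.Agent.Lib.Techniques.Stable
import Cfsg.Agent.Lib.Techniques.Minimal

/-!
The K-infinity subgroups control strong fusion when every section is `p`-stable.
-/

set_option autoImplicit false
set_option linter.unusedSectionVars false

namespace CfsgLib.KInf

open Cfsg Subgroup CfsgLib.Techniques
open scoped commutatorElement

universe u

variable {G : Type u} [Group G] [Finite G] {p : ℕ} [Fact p.Prime]

theorem strongFusion_of_sections {W : ∀ (Q : Type u) [Group Q], Subgroup Q} (hW : IsCharPFunctor.{u} p W)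
    (h : SectionsSatisfy G fun X _ => Constrained p X → ∀ T : Sylow p X,
      (inducedFunctor (G := X) W (T : Subgroup X)).Normal)
    (S : Sylow p G) : ControlsStrongFusion p (inducedFunctor W (S : Subgroup G)) := by
  have h𝓦 : ∀ V ∈ ({W} : Set (∀ (Q : Type u) [Group Q], Subgroup Q)), IsCharPFunctor.{u} p V :=
    fun V hV => by rw [Set.mem_singleton_iff] at hV; subst hV; exact hW
  have hctl := familyFusion_of_sections h𝓦 G (h.imp fun Y _ _ hY _ _ hc => by
    obtain ⟨T⟩ := (inferInstance : Nonempty (Sylow p Y))
    exact familyFusion_of_normal (sylIn_top T) (hY hc T))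
  rw [indFam, Set.image_singleton, familyControlsFusion_singleton] at hctl
  have hat := fusionAt_of_controls (isConjugacyFunctor_induced hW) (sylIn_top S) hctl
  refine ⟨S, inducedFunctor_le W _, fun A hA => ⟨hA, fun g hg => ?_⟩⟩
  obtain ⟨x, hx, hxa⟩ := hat A g (mem_top g) hA hg
  exact ⟨x, hx.2, fun a ha => (hxa a ha).symm⟩

theorem sectionsStable (hst : ∀ (K R : Subgroup G) [_hR : (R.subgroupOf K).Normal],
    IsNormalizerPStable p (↥K ⧸ R.subgroupOf K)) :
    SectionsSatisfy G fun X _ => IsNormalizerPStable p X :=
  sectionsSatisfy_of_quotients (fun _ _ _ _ _ _ e h => isNormalizerPStable_congr e h) fun K R hR => hst K R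

theorem kInf_normal_of_stable (hst : SectionsSatisfy G fun X _ => IsNormalizerPStable p X) :
    SectionsSatisfy G fun X _ => Constrained p X → ∀ T : Sylow p X,
      (inducedFunctor (G := X) Cfsg.kInfLower.{u} (T : Subgroup X)).Normal ∧
        (inducedFunctor (G := X) Cfsg.kInfUpper.{u} (T : Subgroup X)).Normal := by
  intro X _ K f hf hc T
  haveI : Finite X := Finite.of_surjective f hf
  by_contra hn
  obtain ⟨g, -, -, -, -, hns⟩ := exists_degree_four T (not_and_or.1 hn)
  obtain ⟨N, hN, hnot⟩ := hns hc
  haveI := hN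
  exact hnot (((hst.of_surjective f hf).quotient N).self)

end CfsgLib.KInf
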