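import Cfsg.Agent.Lib.KInf.Basic

/-!
The K-infinity subgroups as isomorphism-invariant functors containing the centre.
-/

set_option autoImplicit false

namespace CfsgLib.KInf

open Cfsg Subgroup

universe u

theorem center_le_kInf {P : Type u} [Group P] [Finite P] {p : ℕ} [Fact p.Prime] (hP : IsPGroup p P) :
    center P ≤ kInfLower P ∧ center P ≤ kInfUpper P :=
  ⟨(center_le_centralizer _).trans (centralizer_kInf_le hP).1,
    (center_le_centralizer _).trans (centralizer_kInf_le hP).2⟩

theorem isCharPFunctor_kInfLower (p : ℕ) [Fact p.Prime] :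
    IsCharPFunctor.{u} p Cfsg.kInfLower.{u} := by
  refine ⟨fun Q _ _ hQ hne h => ?_, fun Q R _ _ _ hQ φ => ?_⟩
  · haveI := hne
    haveI := hQ.center_nontrivial
    exact (Subgroup.nontrivial_iff_ne_bot _).1 ‹_› (le_bot_iff.1 ((center_le_kInf hQ).1.trans h.le))
  · haveI : Finite R := Finite.of_equiv Q φ.toEquiv
    exact (map_kInf_equiv φ).1

theorem isCharPFunctor_kInfUpper (p : ℕ) [Fact p.Prime] :
    IsCharPFunctor.{u} p Cfsg.kInfUpper.{u} := by
  refine ⟨fun Q _ _ hQ hne h => ?_, fun Q R _ _ _ hQ φ => ?_⟩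
  · haveI := hne
    haveI := hQ.center_nontrivial
    exact (Subgroup.nontrivial_iff_ne_bot _).1 ‹_› (le_bot_iff.1 ((center_le_kInf hQ).2.trans h.le))
  · haveI : Finite R := Finite.of_equiv Q φ.toEquiv
    exact (map_kInf_equiv φ).2

/-- The induced functor contains the centre. -/
theorem center_le_induced {G : Type u} [Group G] [Finite G] {p : ℕ} [Fact p.Prime] {T : Subgroup G}
    (hT : IsPGroup p T) : T ⊓ centralizer (T : Set G) ≤ inducedFunctor Cfsg.kInfLower.{u} T := by
  intro x hx
  refine ⟨⟨x, hx.1⟩, (center_le_kInf hT).1 ?_, rfl⟩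
  rw [mem_center_iff]
  exact fun y => Subtype.ext (hx.2 y y.2)

end CfsgLib.KInf
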