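import Cfsg.Agent.Lib.KInf.Normal
import Cfsg.Agent.Lib.Techniques.FactorBound
import Cfsg.Agent.Lib.PGroups.Critical
import Cfsg.Prelude.Def_LocalEven

/-!
Elements of degree four on the chief factors of `O_p(G)` when a K-infinity subgroup is not normal.
-/

set_option autoImplicit false
set_option linter.unusedSectionVars false

namespace CfsgLib.KInf

open Cfsg Subgroup CfsgLib.Techniques
open scoped commutatorElement

universe u

variable {G : Type u} [Group G] [Finite G] {p : ℕ} [Fact p.Prime]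

theorem exists_critical_core (p : ℕ) [Fact p.Prime] (G : Type u) [Group G] [Finite G] :
    ∃ A : Subgroup G, Critical p A ∧ pCore p G ⊓ centralizer (A : Set G) ≤ A := by
  set P := pCore p G with hP
  have hPp := CfsgLib.Base.isPGroup_pCore p G
  obtain ⟨H, hHc, hΦ, hcomm, hself⟩ := CfsgLib.PGroups.exists_critical hPp
  haveI := hHc
  set A := H.map P.subtype with hA
  have hmapC : (H ⊓ centralizer (H : Set P)).map P.subtype ≤ A ⊓ centralizer (A : Set G) := by
    rintro _ ⟨h, hh, rfl⟩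
    refine ⟨⟨h, hh.1, rfl⟩, ?_⟩
    rintro _ ⟨k, hk, rfl⟩
    exact congrArg Subtype.val (hh.2 k hk)
  have hΦ' : (frattini H).map H.subtype ≤ H ⊓ centralizer (H : Set P) :=
    le_inf (map_subtype_le _) hΦ
  have h3 : ⁅P, A⁆ ≤ A ⊓ centralizer (A : Set G) := by
    have h := (map_mono (f := P.subtype) ((commutator_comm (⊤ : Subgroup P) H).le.trans hcomm)).trans hmapC
    rwa [Subgroup.map_commutator, ← MonoidHom.range_eq_map, P.range_subtype] at h
  have hselfG : P ⊓ centralizer (A : Set G) ≤ A := by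
    rintro x ⟨hxP, hxC⟩
    exact ⟨⟨x, hxP⟩, hself fun k hk => Subtype.ext (hxC (k : G) ⟨k, hk, rfl⟩), rfl⟩
  refine ⟨A, ⟨map_subtype_le H, ?_, ?_, ?_, h3, ?_⟩, hselfG⟩
  · exact ConjAct.normal_of_characteristic_of_normal
  · rintro _ ⟨a, ha, rfl⟩
    refine hmapC ⟨a ^ p, hΦ' ⟨(⟨a, ha⟩ : H) ^ p, ?_, rfl⟩, by simp⟩
    exact CfsgLib.PGroups.pow_mem_frattini (hPp.to_subgroup H) _
  · have h : ⁅A, A⁆ ≤ ⁅P, A⁆ := commutator_mono (map_subtype_le H) le_rfl
    exact h.trans (h3.trans inf_le_right)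
  · intro c hc hcp x hx
    set v := ⁅c, x⁆ with hv
    have hvP : v ∈ P := comm_mem_of_mem hx
    have hvC : v ∈ centralizer (A : Set G) := by
      intro a ha
      have hn : A.Normal := ConjAct.normal_of_characteristic_of_normal
      have hfix : ∀ b ∈ A, c * b * c⁻¹ = b := fun b hb => by rw [← hc b hb, mul_inv_cancel_right]
      have hb : x⁻¹ * a * x ∈ A := by simpa using hn.conj_mem a ha x⁻¹
      have key : v * a * v⁻¹ = a := by
        calc v * a * v⁻¹ = c * x * c⁻¹ * (x⁻¹ * a * x) * c * x⁻¹ * c⁻¹ := by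
              rw [hv, commutatorElement_def]; group
          _ = c * x * c⁻¹ * (c * (x⁻¹ * a * x) * c⁻¹) * c * x⁻¹ * c⁻¹ := by rw [hfix _ hb]
          _ = c * a * c⁻¹ := by group
          _ = a := hfix a ha
      calc a * v = v * a * v⁻¹ * v := by rw [key]
        _ = v * a := by group
    have hcv : c * v = v * c := (hc v (hselfG ⟨hvP, hvC⟩)).symm
    have hpow : ∀ n : ℕ, c ^ n * x * (c ^ n)⁻¹ = v ^ n * x := by
      intro n
      induction n with
      | zero => simp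
      | succ n ihn =>
        have hcv' : c * v ^ n = v ^ n * c := ((show Commute c v from hcv).pow_right n).eq
        rw [pow_succ', mul_inv_rev,
          show c * c ^ n * x * ((c ^ n)⁻¹ * c⁻¹) = c * (c ^ n * x * (c ^ n)⁻¹) * c⁻¹ by group,
          ihn, ← mul_assoc, hcv', pow_succ, hv, commutatorElement_def]
        group
    have h1 := hpow (orderOf c)
    rw [pow_orderOf_eq_one, one_mul, inv_one, mul_one, right_eq_mul] at h1
    obtain ⟨k, hk⟩ := IsPGroup.iff_orderOf.1 hPp ⟨v, hvP⟩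
    rw [Subgroup.orderOf_mk] at hk
    have h2 : orderOf v = 1 :=
      Nat.eq_one_of_dvd_coprimes (Nat.Coprime.pow_left k hcp.symm) (hk ▸ dvd_refl _) (orderOf_dvd_of_pow_eq_one h1)
    have h4 : ⁅c, x⁆ = 1 := orderOf_eq_one_iff.1 h2
    exact (commutatorElement_eq_one_iff_mul_comm.1 h4).symm

theorem factor_degree {A : Subgroup G} (h : Critical p A) {g : G} (hg : Good p A g) :
    ∀ U V : Subgroup G, IsChiefFactor U V → U ≤ A → iterCommutator U (zpowers g) 3 ≤ V := by
  intro U V hUV hU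
  haveI := hUV.2.1
  haveI := hUV.2.2.1
  haveI := zc_normal h
  obtain ⟨-, h3, h2, -⟩ := hg
  have h2' : ∀ x ∈ zc A, (fun w => ⁅g, w⁆)^[2] x = 1 := fun x hx => by
    have h := iterate_mem_iterCommutator (g := g) hx 2
    rw [show iterCommutator (zc A) (zpowers g) 2 = ⊥ from h2, mem_bot] at h
    exact h
  rcases hUV.2.2.2 (V ⊔ (U ⊓ zc A)) inferInstance le_sup_left (sup_le hUV.1.le inf_le_left) with he | he
  · have hle : U ⊓ zc A ≤ V := le_sup_right.trans he.le
    refine le_trans (le_inf (iterCommutator_le 3) ?_) hle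
    exact (iterCommutator_mono hU le_rfl 3).trans h3
  · have hUU : ⁅U, U⁆ ≤ V :=
      (chiefFactor_pGroup hUV ((CfsgLib.Base.isPGroup_pCore p G).to_le (hU.trans h.le))).1
    refine iterCommutator_le_of_iterate hUU fun x hx => ?_
    have hle : V ⊔ (U ⊓ zc A) ≤ iterKer U V hUU g 3 := by
      refine sup_le (fun v hv => ⟨hUV.1.le hv, ?_⟩) fun z hz => ⟨hz.1, ?_⟩
      · show ⁅g, ⁅g, ⁅g, v⁆⁆⁆ ∈ V
        exact comm_mem_of_mem (comm_mem_of_mem (comm_mem_of_mem hv))
      · show ⁅g, ⁅g, ⁅g, z⁆⁆⁆ ∈ V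
        have h4 : ⁅g, ⁅g, z⁆⁆ = 1 := h2' z hz.2
        rw [h4]
        exact comm_mem_of_mem V.one_mem
    exact (hle (he.ge hx)).2

/-- An irreducible `p`-section of a group has trivial `O_p` of the group acting on it. -/
theorem pCore_quotient_centralizer_eq_bot {U V : Subgroup G} [V.Normal] (h : IsChiefFactor U V)
    (hU : IsPGroup p U) {g : G}
    (hg : (g : G ⧸ V) ∈ normalizer ((U.map (QuotientGroup.mk' V) : Subgroup (G ⧸ V)) : Set (G ⧸ V)))
    (hmem : (QuotientGroup.mk (s := (centralizer ((U.map (QuotientGroup.mk' V) : Subgroup (G ⧸ V)) : Set (G ⧸ V))).subgroupOf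
        (normalizer ((U.map (QuotientGroup.mk' V) : Subgroup (G ⧸ V)) : Set (G ⧸ V))))
        (⟨_, hg⟩ : ↥(normalizer ((U.map (QuotientGroup.mk' V) : Subgroup (G ⧸ V)) : Set (G ⧸ V))))) ∈
      pCore p (↥(normalizer ((U.map (QuotientGroup.mk' V) : Subgroup (G ⧸ V)) : Set (G ⧸ V))) ⧸
        (centralizer ((U.map (QuotientGroup.mk' V) : Subgroup (G ⧸ V)) : Set (G ⧸ V))).subgroupOf
          (normalizer ((U.map (QuotientGroup.mk' V) : Subgroup (G ⧸ V)) : Set (G ⧸ V))))) :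
    (g : G ⧸ V) ∈ centralizer ((U.map (QuotientGroup.mk' V) : Subgroup (G ⧸ V)) : Set (G ⧸ V)) := by
  set π := QuotientGroup.mk' V with hπ
  set Ub := U.map π with hUb
  haveI := h.2.1
  haveI : Ub.Normal := h.2.1.map π (QuotientGroup.mk'_surjective V)
  set C := centralizer (Ub : Set (G ⧸ V)) with hC
  set N := normalizer (Ub : Set (G ⧸ V)) with hN
  have hNtop : N = ⊤ := by rw [hN, normalizer_eq_top]
  set q := QuotientGroup.mk' (C.subgroupOf N) with hq
  set L := (pCore p (N ⧸ C.subgroupOf N)).comap q with hL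
  haveI : L.Normal := inferInstance
  have hLn : ∀ (y : G ⧸ V) (l : N), l ∈ L → (⟨y, hNtop ▸ mem_top y⟩ : N) * l * ⟨y, hNtop ▸ mem_top y⟩⁻¹ ∈ L :=
    fun y l hl => (inferInstance : L.Normal).conj_mem l hl _
  let a : L →* MulAut Ub := (MulAut.conjNormal (H := Ub)).comp (N.subtype.comp L.subtype)
  have hR : IsPGroup p a.range := by
    rintro ⟨_, l, rfl⟩
    obtain ⟨k, hk⟩ := (CfsgLib.Base.isPGroup_pCore p (N ⧸ C.subgroupOf N)) ⟨q l, l.2⟩
    refine ⟨k, Subtype.ext ?_⟩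
    show a l ^ p ^ k = 1
    rw [← map_pow]
    have h1 : q ((l : N) ^ p ^ k) = 1 := by
      rw [map_pow]
      exact congrArg Subtype.val hk
    have h2 : (((l : N) : G ⧸ V)) ^ p ^ k ∈ C := mem_subgroupOf.1 ((QuotientGroup.eq_one_iff _).1 h1)
    refine MulEquiv.ext fun u => Subtype.ext ?_
    show (MulAut.conjNormal (((l ^ p ^ k : L) : N) : G ⧸ V) u : G ⧸ V) = _
    rw [MulAut.conjNormal_apply, SubmonoidClass.coe_pow, SubmonoidClass.coe_pow, ← h2 _ u.2, mul_inv_cancel_right]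
    rfl
  haveI : Nontrivial Ub := by
    rw [Subgroup.nontrivial_iff_ne_bot, hUb, Ne, Subgroup.map_eq_bot_iff, hπ, QuotientGroup.ker_mk']
    exact h.1.not_ge
  have hdvd : p ∣ Nat.card Ub := (hU.map π).card_eq_or_dvd.resolve_left (Finite.one_lt_card).ne'
  have h1 : (1 : Ub) ∈ MulAction.fixedPoints a.range Ub := fun r => map_one (r : MulAut Ub)
  obtain ⟨z, hz, hzne⟩ := hR.exists_fixed_point_of_prime_dvd_card_of_fixed_point (α := Ub) hdvd h1
  let W : Subgroup G :=
    { carrier := {x | x ∈ U ∧ ∀ l ∈ L, π x * (l : G ⧸ V) = (l : G ⧸ V) * π x}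
      one_mem' := ⟨U.one_mem, fun l _ => by simp⟩
      mul_mem' := fun {x y} hx hy => ⟨mul_mem hx.1 hy.1, fun l hl => by
        rw [map_mul, mul_assoc, hy.2 l hl, ← mul_assoc, hx.2 l hl, mul_assoc]⟩
      inv_mem' := fun {x} hx => ⟨inv_mem hx.1, fun l hl => by
        rw [map_inv]
        exact ((show Commute (π x) (l : G ⧸ V) from hx.2 l hl).inv_left).eq⟩ }
  haveI : W.Normal := ⟨fun x hx k => ⟨h.2.1.conj_mem x hx.1 k, fun l hl => by
    have hl' := hLn (π k)⁻¹ l hl
    have h3 : π x * ((π k)⁻¹ * (l : G ⧸ V) * (π k)⁻¹⁻¹) = (π k)⁻¹ * (l : G ⧸ V) * (π k)⁻¹⁻¹ * π x := hx.2 _ hl'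
    rw [map_mul, map_mul, map_inv]
    calc π k * π x * (π k)⁻¹ * (l : G ⧸ V) = π k * (π x * ((π k)⁻¹ * (l : G ⧸ V) * (π k)⁻¹⁻¹)) * (π k)⁻¹ := by group
      _ = π k * ((π k)⁻¹ * (l : G ⧸ V) * (π k)⁻¹⁻¹ * π x) * (π k)⁻¹ := by rw [h3]
      _ = (l : G ⧸ V) * (π k * π x * (π k)⁻¹) := by group⟩⟩
  have hVW : V ≤ W := fun v hv => ⟨h.1.le hv, fun l _ => by
    rw [show π v = 1 from (QuotientGroup.eq_one_iff v).2 hv, one_mul, mul_one]⟩
  rcases h.2.2.2 W inferInstance hVW (fun x hx => hx.1) with he | he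
  · exfalso
    obtain ⟨w, hw, hwe⟩ := z.2
    have hwW : w ∈ W := ⟨hw, fun l hl => by
      have h5 : MulAut.conjNormal (l : G ⧸ V) z = z := hz ⟨a ⟨l, hl⟩, ⟨⟨l, hl⟩, rfl⟩⟩
      have h6 := congrArg Subtype.val h5
      rw [MulAut.conjNormal_apply, ← hwe] at h6
      calc π w * (l : G ⧸ V) = (l : G ⧸ V) * π w * (l : G ⧸ V)⁻¹ * (l : G ⧸ V) := by rw [h6]
        _ = (l : G ⧸ V) * π w := by group⟩
    rw [he] at hwW
    refine hzne (Subtype.ext ?_)
    show (1 : G ⧸ V) = (z : G ⧸ V)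
    rw [← hwe]
    exact ((QuotientGroup.eq_one_iff w).2 hwW).symm
  · rintro _ ⟨u, hu, rfl⟩
    exact (he.ge hu).2 ⟨(g : G ⧸ V), hg⟩ hmem

theorem exists_degree_four (S : Sylow p G)
    (hK : ¬ (inducedFunctor Cfsg.kInfLower.{u} (S : Subgroup G)).Normal ∨
      ¬ (inducedFunctor Cfsg.kInfUpper.{u} (S : Subgroup G)).Normal) :
    ∃ g : G, g ∈ (S : Subgroup G) ∧ g ∉ pCore p G ∧
      (∀ U V : Subgroup G, IsChiefFactor U V → U ≤ pCore p G → iterCommutator U (zpowers g) 4 ≤ V) ∧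
      ⁅⁅pCore p G ⊓ centralizer ((pCore p G : Subgroup G) : Set G), zpowers g⁆, zpowers g⁆ = ⊥ ∧
      (centralizer ((pCore p G : Subgroup G) : Set G) ≤ pCore p G →
        ∃ (N : Subgroup G) (_ : N.Normal), ¬ IsNormalizerPStable p (G ⧸ N)) := by
  obtain ⟨A, hA, hAC⟩ := exists_critical_core p G
  obtain ⟨g, hgS, hg⟩ := exists_good hA S hK
  refine ⟨g, hgS, hg.1, ?_, ?_, fun hc => ?_⟩
  · haveI := hA.normal
    refine factor_bound (P := pCore p G) (Q := A) (CfsgLib.Base.isPGroup_pCore p G) hA.le hA.comm hAC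
      (i := 3) (j := 2) (by omega) (factor_degree hA hg) fun U V _ hU => ?_
    exact ((iterCommutator_mono hU le_rfl 2).trans hg.2.2.1.le).trans bot_le
  · refine le_bot_iff.1 ((commutator_mono (commutator_mono ?_ le_rfl) le_rfl).trans hg.2.2.1.le)
    exact le_inf ((le_inf inf_le_left (inf_le_right.trans (centralizer_le hA.le))).trans hAC)
      (inf_le_right.trans (centralizer_le hA.le))
  · obtain ⟨U, V, hUV, hU, hq, hne⟩ := hg.2.2.2 hc
    haveI := hUV.2.2.1
    refine ⟨V, hUV.2.2.1, fun hst => hne ?_⟩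
    have hUp : IsPGroup p U := (CfsgLib.Base.isPGroup_pCore p G).to_le (hU.trans hA.le)
    set π := QuotientGroup.mk' V with hπ
    haveI : (U.map π).Normal := hUV.2.1.map π (QuotientGroup.mk'_surjective V)
    have hgn : π g ∈ normalizer ((U.map π : Subgroup (G ⧸ V)) : Set (G ⧸ V)) := by
      rw [normalizer_eq_top]; exact mem_top _
    have hmem := hst (U.map π) (hUp.map π) (π g) hgn (by
      rw [← MonoidHom.map_zpowers, ← Subgroup.map_commutator, ← Subgroup.map_commutator,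
        Subgroup.map_eq_bot_iff, hπ, QuotientGroup.ker_mk']
      exact hq)
    have hcen := pCore_quotient_centralizer_eq_bot hUV hUp hgn hmem
    rw [← QuotientGroup.ker_mk' V, ← Subgroup.map_eq_bot_iff, Subgroup.map_commutator, MonoidHom.map_zpowers,
      Subgroup.commutator_comm, commutator_eq_bot_iff_le_centralizer, zpowers_le]
    exact hcen

end CfsgLib.KInf
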