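import Cfsg.Agent.Lib.KInf.Witness

/-!
If a K-infinity subgroup of a Sylow subgroup is not normal there is a good element.
-/

set_option autoImplicit false
set_option linter.unusedSectionVars false

namespace CfsgLib.KInf

open Cfsg Subgroup CfsgLib.Techniques
open scoped commutatorElement

universe u

variable {G : Type u} [Group G] [Finite G] {p : ℕ} [Fact p.Prime]

theorem characteristic_kInf (P : Type u) [Group P] [Finite P] :
    (Cfsg.kInfLower.{u} P).Characteristic ∧ (Cfsg.kInfUpper.{u} P).Characteristic :=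
  ⟨Subgroup.characteristic_iff_map_eq.2 fun φ => (map_kInf_equiv φ).1,
    Subgroup.characteristic_iff_map_eq.2 fun φ => (map_kInf_equiv φ).2⟩

theorem critical_of {A : Subgroup G} (hle : A ≤ pCore p G)
    (hchar : (A.subgroupOf (pCore p G)).Characteristic)
    (hexp : ∀ a ∈ A, a ^ p ∈ A ⊓ centralizer (A : Set G)) (h2 : ⁅A, A⁆ ≤ centralizer (A : Set G))
    (h3 : ⁅pCore p G, A⁆ ≤ A ⊓ centralizer (A : Set G))
    (h5 : ∀ φ : MulAut ↥(pCore p G), (orderOf φ).Coprime p → (∀ a : ↥(pCore p G), (a : G) ∈ A → φ a = a) → φ = 1) :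
    Critical p A := by
  refine ⟨hle, ?_, hexp, h2, h3, fun c hc hcp => ?_⟩
  · haveI := hchar
    have h : ((A.subgroupOf (pCore p G)).map (pCore p G).subtype).Normal :=
      ConjAct.normal_of_characteristic_of_normal
    rwa [map_subgroupOf_eq_of_le hle] at h
  · have hφ := h5 (MulAut.conjNormal c) (Nat.Coprime.coprime_dvd_left (orderOf_map_dvd _ c) hcp) fun a ha =>
      Subtype.ext (by rw [MulAut.conjNormal_apply, ← hc _ ha, mul_inv_cancel_right])
    intro x hx
    have h := congrArg Subtype.val (DFunLike.congr_fun hφ ⟨x, hx⟩)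
    rw [MulAut.conjNormal_apply] at h
    calc x * c = c * x * c⁻¹ * c := by rw [h]; rfl
      _ = c * x := by group

/-- If the terms of the K-sequence of `S` lie in `O_p(G)`, both limits are normal. -/
theorem normal_of_terms_le {S : Subgroup G} (hPS : pCore p G ≤ S)
    (h : ∀ n, (kSeqEven S n).map S.subtype ≤ pCore p G ∧ (kSeqOdd S (n + 1)).map S.subtype ≤ pCore p G) :
    (inducedFunctor Cfsg.kInfLower.{u} S).Normal ∧ (inducedFunctor Cfsg.kInfUpper.{u} S).Normal := by
  have hr : ∀ Q : Subgroup S, Q.map S.subtype ≤ pCore p G → Q ≤ (inclusion hPS).range := by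
    intro Q hQ q hq
    exact ⟨⟨q, hQ ⟨q, hq, rfl⟩⟩, Subtype.ext rfl⟩
  have hm := map_kInf (inclusion_injective hPS) fun n => ⟨hr _ (h n).1, hr _ (h n).2⟩
  have e : ∀ Q : Subgroup (pCore p G), (Q.map (inclusion hPS)).map S.subtype = Q.map (pCore p G).subtype := by
    intro Q
    rw [Subgroup.map_map]
    rfl
  obtain ⟨hc1, hc2⟩ := characteristic_kInf (pCore p G)
  constructor
  · show ((Cfsg.kInfLower.{u} S).map S.subtype).Normal
    rw [← hm.1, e]
    exact ConjAct.normal_of_characteristic_of_normal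
  · show ((Cfsg.kInfUpper.{u} S).map S.subtype).Normal
    rw [← hm.2, e]
    exact ConjAct.normal_of_characteristic_of_normal

theorem exists_good {A : Subgroup G} (h : Critical p A) (S : Sylow p G)
    (hK : ¬ (inducedFunctor Cfsg.kInfLower.{u} (S : Subgroup G)).Normal ∨
      ¬ (inducedFunctor Cfsg.kInfUpper.{u} (S : Subgroup G)).Normal) :
    ∃ g ∈ (S : Subgroup G), Good p A g := by
  by_contra hno
  push Not at hno
  have hPS : pCore p G ≤ (S : Subgroup G) := CfsgLib.Base.pCore_le_sylow S
  obtain ⟨h1, h2⟩ := normal_of_terms_le hPS (terms_le h (h.le.trans hPS) hPS hno)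
  exact hK.elim (fun hh => hh h1) fun hh => hh h2

end CfsgLib.KInf
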