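import Mathlib
import Cfsg.Prelude.Def_ConjugacyFunctors
import Cfsg.Agent.Lib.PGroups.Basic

/-!
The families defining the K-sequence and their limits.
-/

set_option autoImplicit false
set_option linter.unusedSectionVars false

namespace CfsgLib.KInf

open Cfsg Subgroup
open scoped commutatorElement

variable {P : Type*} [Group P]

/-- The centre of `B`, inside the ambient group. -/
abbrev zc (B : Subgroup P) : Subgroup P := B ⊓ centralizer (B : Set P)

theorem commutator_le_iff_normalizes {B Q : Subgroup P} :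
    ⁅B, Q⁆ ≤ B ↔ Q ≤ normalizer (B : Set P) := by
  constructor
  · intro h
    have key : ∀ q ∈ Q, ∀ b ∈ B, q * b * q⁻¹ ∈ B := fun q hq b hb => by
      have h1 := h (commutator_mem_commutator hb hq)
      have h2 := mul_mem (inv_mem h1) hb
      rw [commutatorElement_def] at h2
      simpa [mul_assoc] using h2
    intro q hq
    refine mem_normalizer_iff.2 fun y => ⟨key q hq y, fun hy => ?_⟩
    simpa [mul_assoc] using key q⁻¹ (inv_mem hq) _ hy
  · intro h
    rw [commutator_le]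
    intro b hb q hq
    rw [commutatorElement_def]
    simpa [mul_assoc] using mul_mem hb ((mem_normalizer_iff.1 (h hq) b⁻¹).1 (inv_mem hb))

theorem le_normalizer_of_commutator_le {B Q : Subgroup P} (h : ⁅B, Q⁆ ≤ B) :
    Q ≤ normalizer (B : Set P) :=
  commutator_le_iff_normalizes.1 h

theorem upper_antitone {Q Q' : Subgroup P} (h : Q' ≤ Q) : kUpperStarFamily Q ⊆ kUpperStarFamily Q' :=
  fun _ hB => ⟨hB.1, (commutator_mono le_rfl h).trans hB.2⟩

theorem lower_antitone {Q Q' : Subgroup P} (h : Q' ≤ Q) : kLowerStarFamily Q ⊆ kLowerStarFamily Q' :=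
  fun _ hB => ⟨hB.1, h.trans hB.2.1, fun A hA hAQ => hB.2.2 A hA (hAQ.trans h)⟩

theorem seq_mono (n : ℕ) :
    kSeqOdd P (n + 1) ≤ kSeqOdd P n ∧ kSeqEven P n ≤ kSeqEven P (n + 1) := by
  induction n with
  | zero =>
    have h : kSeqOdd P (0 + 1) ≤ kSeqOdd P 0 := le_top
    exact ⟨h, sSup_le_sSup (lower_antitone h)⟩
  | succ n ih =>
    have h : kSeqOdd P (n + 1 + 1) ≤ kSeqOdd P (n + 1) := sSup_le_sSup (upper_antitone ih.2)
    exact ⟨h, sSup_le_sSup (lower_antitone h)⟩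

theorem odd_antitone : Antitone (kSeqOdd P) := antitone_nat_of_succ_le fun n => (seq_mono n).1

theorem even_monotone : Monotone (kSeqEven P) := monotone_nat_of_le_succ fun n => (seq_mono n).2

theorem exists_stable [Finite P] :
    ∃ n : ℕ, ∀ m : ℕ, n ≤ m → kSeqEven P m = kInfLower P ∧ kSeqOdd P m = kInfUpper P := by
  obtain ⟨n, hn⟩ : ∃ n, ∀ m, n ≤ m → kSeqOdd P n ≤ kSeqOdd P m := by
    obtain ⟨_, ⟨n, rfl⟩, hn⟩ := Set.Finite.exists_minimal (s := Set.range (kSeqOdd P)) (Set.toFinite _)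
      ⟨_, 0, rfl⟩
    exact ⟨n, fun m hm => hn ⟨m, rfl⟩ (odd_antitone hm)⟩
  have hodd : ∀ m, n ≤ m → kSeqOdd P m = kSeqOdd P n := fun m hm => le_antisymm (odd_antitone hm) (hn m hm)
  have heven : ∀ m, n ≤ m → kSeqEven P m = kSeqEven P n := fun m hm => by
    unfold kSeqEven
    rw [hodd m hm]
  refine ⟨n, fun m hm => ⟨le_antisymm (le_iSup _ m) (iSup_le fun k => ?_),
    le_antisymm (le_iInf fun k => ?_) (iInf_le _ m)⟩⟩
  · refine (even_monotone (le_max_left k n)).trans ?_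
    rw [heven m hm, heven (max k n) (le_max_right _ _)]
  · refine le_trans ?_ (odd_antitone (le_max_left k n))
    rw [hodd m hm, hodd (max k n) (le_max_right _ _)]

theorem normalAbelian_mem {A : Subgroup P} [A.Normal] (hA : IsMulCommutative A) :
    A ∈ classTwoSubgroups P ∧ ∀ Q, A ∈ kLowerStarFamily Q ∧ A ∈ kUpperStarFamily Q := by
  have hc : A ≤ centralizer (A : Set P) := fun a ha b hb =>
    congrArg Subtype.val (hA.is_comm.comm (⟨b, hb⟩ : A) ⟨a, ha⟩)
  have hz : zc A = A := inf_eq_left.2 hc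
  have h2 : A ∈ classTwoSubgroups P := (commutator_le_self A).trans hc
  have hle : ∀ Q : Subgroup P, ⁅A, Q⁆ ≤ zc A := fun Q => (commutator_le_left A Q).trans hz.ge
  refine ⟨h2, fun Q => ⟨⟨h2, by rw [normalizer_eq_top]; exact le_top, fun B _ _ _ _ _ => hle B⟩, h2, hle Q⟩⟩

theorem bot_mem_lower (Q : Subgroup P) : (⊥ : Subgroup P) ∈ kLowerStarFamily Q :=
  ((normalAbelian_mem (A := (⊥ : Subgroup P)) ⟨⟨fun a b => Subsingleton.elim _ _⟩⟩).2 Q).1

theorem bot_mem_upper (Q : Subgroup P) : (⊥ : Subgroup P) ∈ kUpperStarFamily Q :=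
  ((normalAbelian_mem (A := (⊥ : Subgroup P)) ⟨⟨fun a b => Subsingleton.elim _ _⟩⟩).2 Q).2

/-- The sup of `B` with a central element `x`. -/
theorem adjoin {B : Subgroup P} {x : P} (hB : B ∈ classTwoSubgroups P) (hx : x ∈ centralizer (B : Set P)) :
    B ⊔ zpowers x ∈ classTwoSubgroups P ∧ zc B ≤ zc (B ⊔ zpowers x) ∧
    ∀ A : Subgroup P, ⁅B, A⁆ ≤ zc B → (∀ a ∈ A, ⁅x, a⁆ ∈ zc B) → ⁅B ⊔ zpowers x, A⁆ ≤ zc (B ⊔ zpowers x) := by
  set B' := B ⊔ zpowers x with hB'
  have hxB : zpowers x ≤ centralizer (B : Set P) := zpowers_le.2 hx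
  have hmem : ∀ y ∈ B', ∃ b ∈ B, ∃ z ∈ zpowers x, b * z = y := by
    intro y hy
    rw [← SetLike.mem_coe, hB', coe_mul_of_right_le_normalizer_left _ _ (hxB.trans (centralizer_le_normalizer _))] at hy
    exact hy
  have hzz : ∀ z ∈ zpowers x, ∀ z' ∈ zpowers x, z * z' = z' * z := by
    rintro _ ⟨i, rfl⟩ _ ⟨j, rfl⟩
    exact (Commute.refl x).zpow_zpow i j
  have hzc : zc B ≤ zc B' := by
    rintro w ⟨hwB, hwC⟩
    refine ⟨(le_sup_left : B ≤ B') hwB, fun y hy => ?_⟩
    obtain ⟨b, hb, z, hz, rfl⟩ := hmem y hy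
    rw [mul_assoc, ← hxB hz w hwB, ← mul_assoc, hwC b hb, mul_assoc]
  refine ⟨?_, hzc, fun A hA hxA => ?_⟩
  · refine (commutator_le.2 fun y hy y' hy' => ?_ : ⁅B', B'⁆ ≤ ⁅B, B⁆).trans ?_
    · obtain ⟨b, hb, z, hz, rfl⟩ := hmem y hy
      obtain ⟨b', hb', z', hz', rfl⟩ := hmem y' hy'
      have e1 : Commute z b' := (hxB hz b' hb').symm
      have e2 : Commute z' b := (hxB hz' b hb).symm
      have e3 : Commute z z' := hzz z hz z' hz'
      have : ⁅b * z, b' * z'⁆ = ⁅b, b'⁆ := by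
        have h1 : b * z * (b' * z') = b * b' * (z * z') := by rw [mul_assoc, ← mul_assoc z, e1.eq]; group
        have h2 : b' * z' * (b * z) = b' * b * (z * z') := by
          rw [mul_assoc, ← mul_assoc z', e2.eq, e3.eq]; group
        calc ⁅b * z, b' * z'⁆ = (b * z * (b' * z')) * (b' * z' * (b * z))⁻¹ := by
              rw [commutatorElement_def]; group
          _ = ⁅b, b'⁆ := by rw [h1, h2, commutatorElement_def]; group
      rw [this]
      exact commutator_mem_commutator hb hb'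
    · intro w hw y hy
      obtain ⟨b, hb, z, hz, rfl⟩ := hmem y hy
      rw [mul_assoc, ← hxB hz w (commutator_le_self B hw), ← mul_assoc, hB hw b hb, mul_assoc]
  · rw [commutator_le]
    intro y hy a ha
    obtain ⟨b, hb, z, hz, rfl⟩ := hmem y hy
    have hza : ⁅z, a⁆ ∈ zc B' := by
      obtain ⟨i, rfl⟩ := hz
      clear hy
      induction i using Int.induction_on with
      | zero => simp
      | succ i ih =>
        have h1 := hzc (hxA a ha)
        have h3 : x * ⁅x ^ (i : ℤ), a⁆ = ⁅x ^ (i : ℤ), a⁆ * x :=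
          ih.2 x ((le_sup_right : zpowers x ≤ B') (mem_zpowers x))
        have e : ⁅x ^ ((i : ℤ) + 1), a⁆ = ⁅x ^ (i : ℤ), a⁆ * ⁅x, a⁆ := by
          rw [zpow_add_one, (Commute.self_zpow x i).symm.eq, commutatorElement_def,
            show x * x ^ (i : ℤ) * a * (x * x ^ (i : ℤ))⁻¹ * a⁻¹ =
              x * ⁅x ^ (i : ℤ), a⁆ * (a * x⁻¹ * a⁻¹) by rw [commutatorElement_def]; group,
            h3, commutatorElement_def, commutatorElement_def]
          group
        show ⁅x ^ ((i : ℤ) + 1), a⁆ ∈ zc B'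
        rw [e]
        exact mul_mem ih h1
      | pred i ih =>
        have h1 := hzc (hxA a ha)
        have e : ⁅x ^ (-(i : ℤ) - 1), a⁆ = x⁻¹ * (⁅x ^ (-(i : ℤ)), a⁆ * ⁅x, a⁆⁻¹) * x := by
          rw [commutatorElement_def, commutatorElement_def, commutatorElement_def, zpow_sub_one,
            ((Commute.self_zpow x (-(i : ℤ))).inv_left).symm.eq]
          group
        show ⁅x ^ (-(i : ℤ) - 1), a⁆ ∈ zc B'
        have h4 := mul_mem ih (inv_mem h1)
        rw [e, mul_assoc, ← h4.2 x ((le_sup_right : zpowers x ≤ B') (mem_zpowers x)), inv_mul_cancel_left]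
        exact h4
    have hba : ⁅b, a⁆ ∈ zc B' := hzc (hA (commutator_mem_commutator hb ha))
    have e : ⁅b * z, a⁆ = b * ⁅z, a⁆ * b⁻¹ * ⁅b, a⁆ := by
      rw [commutatorElement_def, commutatorElement_def, commutatorElement_def]; group
    rw [e, hza.2 b ((le_sup_left : B ≤ B') hb), mul_inv_cancel_right]
    exact mul_mem hza hba

/-- A central element of `C(B)` modulo `Z(B)`, relative to `Q`. -/
theorem exists_central [Finite P] {p : ℕ} [Fact p.Prime] (hP : IsPGroup p P) {B Q : Subgroup P}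
    (hQ : Q ≤ normalizer (B : Set P)) (hne : ¬ centralizer (B : Set P) ≤ B) :
    ∃ x ∈ centralizer (B : Set P), x ∉ B ∧ ∀ a ∈ Q, ⁅x, a⁆ ∈ zc B := by
  set C := centralizer (B : Set P) with hC
  set K := normalizer (C : Set P) ⊓ normalizer (B : Set P) with hK
  have hCK : C ≤ K := le_inf le_normalizer (centralizer_le_normalizer _)
  have hQK : Q ≤ K := by
    refine le_inf (fun q hq => mem_normalizer_iff.2 fun y => ?_) hQ
    have hqB := hQ hq
    constructor
    · intro hy b hb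
      have hb' : q⁻¹ * b * q ∈ B := by
        simpa using (mem_normalizer_iff.1 (inv_mem hqB) b).1 hb
      calc b * (q * y * q⁻¹) = q * ((q⁻¹ * b * q) * y) * q⁻¹ := by group
        _ = q * (y * (q⁻¹ * b * q)) * q⁻¹ := by rw [hy _ hb']
        _ = q * y * q⁻¹ * b := by group
    · intro hy b hb
      have hb' : q * b * q⁻¹ ∈ B := (mem_normalizer_iff.1 hqB b).1 hb
      calc b * y = q⁻¹ * ((q * b * q⁻¹) * (q * y * q⁻¹)) * q := by group
        _ = q⁻¹ * ((q * y * q⁻¹) * (q * b * q⁻¹)) * q := by rw [hy _ hb']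
        _ = y * b := by group
  haveI : (C.subgroupOf K).Normal := (normal_subgroupOf_iff_le_normalizer hCK).2 inf_le_left
  have hzK : K ≤ normalizer (zc B : Set P) := fun k hk => mem_normalizer_iff.2 fun y =>
    and_congr (mem_normalizer_iff.1 hk.2 y) (mem_normalizer_iff.1 hk.1 y)
  haveI : ((zc B).subgroupOf K).Normal :=
    (normal_subgroupOf_iff_le_normalizer (inf_le_right.trans hCK)).2 hzK
  set π := QuotientGroup.mk' ((zc B).subgroupOf K) with hπ
  set Cb := (C.subgroupOf K).map π with hCb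
  haveI : Cb.Normal := (inferInstance : (C.subgroupOf K).Normal).map π (QuotientGroup.mk'_surjective _)
  obtain ⟨c, hc, hcB⟩ := SetLike.not_le_iff_exists.1 hne
  have hcne : Cb ≠ ⊥ := by
    intro h
    have h1 : π ⟨c, hCK hc⟩ ∈ Cb := ⟨_, mem_subgroupOf.2 hc, rfl⟩
    rw [h, mem_bot, hπ, QuotientGroup.mk'_apply, QuotientGroup.eq_one_iff] at h1
    exact hcB (mem_subgroupOf.1 h1).1
  have hKp : IsPGroup p (K ⧸ (zc B).subgroupOf K) := (hP.to_subgroup K).to_quotient _
  haveI : Nontrivial Cb := (nontrivial_iff_ne_bot _).2 hcne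
  obtain ⟨y, hy, hyne⟩ : ∃ y ∈ Cb ⊓ center _, y ≠ 1 :=
    (bot_or_exists_ne_one _).resolve_left (CfsgLib.PGroups.inf_center_ne_bot hKp hcne)
  obtain ⟨⟨x, hxK⟩, hx, rfl⟩ := hy.1
  refine ⟨x, mem_subgroupOf.1 hx, fun hxB => hyne ?_, fun a ha => ?_⟩
  · exact (QuotientGroup.eq_one_iff _).2 (mem_subgroupOf.2 ⟨hxB, mem_subgroupOf.1 hx⟩)
  · have h1 := mem_center_iff.1 hy.2 (π ⟨a, hQK ha⟩)
    have h2 : π ⁅(⟨x, hxK⟩ : K), ⟨a, hQK ha⟩⁆ = 1 := by
      rw [map_commutatorElement, commutatorElement_eq_one_iff_mul_comm]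
      exact h1.symm
    exact mem_subgroupOf.1 ((QuotientGroup.eq_one_iff _).1 h2)

theorem centralizer_le_of_maximal [Finite P] {p : ℕ} [Fact p.Prime] (hP : IsPGroup p P) {B : Subgroup P}
    {𝒦 : Set (Subgroup P)}
    (h𝒦 : 𝒦 = classTwoSubgroups P ∨ (∃ Q, 𝒦 = kLowerStarFamily Q) ∨ ∃ Q, 𝒦 = kUpperStarFamily Q)
    (hB : B ∈ 𝒦) (hmax : ∀ C ∈ 𝒦, B ≤ C → C = B) : centralizer (B : Set P) ≤ B := by
  by_contra hne
  rcases h𝒦 with rfl | ⟨Q, rfl⟩ | ⟨Q, rfl⟩
  · obtain ⟨x, hx, hxB, -⟩ := exists_central hP (Q := ⊥) bot_le hne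
    exact hxB ((hmax _ (adjoin hB hx).1 le_sup_left).le ((le_sup_right : zpowers x ≤ B ⊔ zpowers x) (mem_zpowers x)))
  · obtain ⟨x, hx, hxB, hxQ⟩ := exists_central hP hB.2.1 hne
    obtain ⟨h2, hz, hcomm⟩ := adjoin hB.1 hx
    refine hxB ((hmax _ ⟨h2, ?_, fun A hA hAQ hn hA1 hA2 => hcomm A (hB.2.2 A hA hAQ (le_sup_left.trans hn) ?_ ?_)
      fun a ha => hxQ a (hAQ ha)⟩ le_sup_left).le ((le_sup_right : zpowers x ≤ B ⊔ zpowers x) (mem_zpowers x)))
    · intro q hq
      refine mem_normalizer_iff.2 fun y => ?_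
      have key : ∀ r ∈ Q, ∀ w ∈ B ⊔ zpowers x, r * w * r⁻¹ ∈ B ⊔ zpowers x := by
        intro r hr w hw
        have : B ⊔ zpowers x ≤ (B ⊔ zpowers x).comap (MulAut.conj r).toMonoidHom := by
          refine sup_le (fun b hb => ?_) (zpowers_le.2 ?_)
          · exact (le_sup_left : B ≤ B ⊔ zpowers x) ((mem_normalizer_iff.1 (hB.2.1 hr) b).1 hb)
          · show r * x * r⁻¹ ∈ B ⊔ zpowers x
            have h1 := (le_sup_left : B ≤ B ⊔ zpowers x) (hxQ r hr).1
            have h2 := mul_mem (inv_mem h1) ((le_sup_right : zpowers x ≤ B ⊔ zpowers x) (mem_zpowers x))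
            rw [commutatorElement_def] at h2
            simpa [mul_assoc] using h2
        exact this hw
      constructor
      · exact key q hq y
      · intro hy
        simpa [mul_assoc] using key q⁻¹ (Q.inv_mem hq) _ hy
    · exact le_bot_iff.1 ((commutator_mono le_sup_left le_rfl).trans hA1.le)
    · exact le_bot_iff.1 ((commutator_mono (commutator_mono hz le_rfl) le_rfl).trans hA2.le)
  · obtain ⟨x, hx, hxB, hxQ⟩ := exists_central hP (le_normalizer_of_commutator_le (hB.2.trans inf_le_left)) hne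
    obtain ⟨h2, -, hcomm⟩ := adjoin hB.1 hx
    exact hxB ((hmax _ ⟨h2, hcomm Q hB.2 hxQ⟩ le_sup_left).le ((le_sup_right : zpowers x ≤ B ⊔ zpowers x) (mem_zpowers x)))

theorem centralizer_sSup_le [Finite P] {p : ℕ} [Fact p.Prime] (hP : IsPGroup p P) {𝒦 : Set (Subgroup P)}
    (h𝒦 : 𝒦 = classTwoSubgroups P ∨ (∃ Q, 𝒦 = kLowerStarFamily Q) ∨ ∃ Q, 𝒦 = kUpperStarFamily Q)
    (hne : 𝒦.Nonempty) : centralizer ((sSup 𝒦 : Subgroup P) : Set P) ≤ sSup 𝒦 := by
  obtain ⟨B, hB, hmax⟩ := Set.Finite.exists_maximal (Set.toFinite 𝒦) hne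
  exact (centralizer_le (show B ≤ sSup 𝒦 from le_sSup hB)).trans
    ((centralizer_le_of_maximal hP h𝒦 hB fun C hC hBC => le_antisymm (hmax hC hBC) hBC).trans (le_sSup hB))

theorem centralizer_kInf_le [Finite P] {p : ℕ} [Fact p.Prime] (hP : IsPGroup p P) :
    centralizer (kInfLower P : Set P) ≤ kInfLower P ∧ centralizer (kInfUpper P : Set P) ≤ kInfUpper P := by
  obtain ⟨n, hn⟩ := exists_stable (P := P)
  rw [← (hn n le_rfl).1, ← (hn (n + 1) n.le_succ).2]
  exact ⟨centralizer_sSup_le hP (Or.inr (Or.inl ⟨_, rfl⟩)) ⟨⊥, bot_mem_lower _⟩,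
    centralizer_sSup_le hP (Or.inr (Or.inr ⟨_, rfl⟩)) ⟨⊥, bot_mem_upper _⟩⟩

section Map

variable {X : Type*} [Group X] {f : X →* P}

theorem map_centralizer_inf (hf : Function.Injective f) (B : Subgroup X) : (zc B).map f = zc (B.map f) := by
  refine le_antisymm ?_ ?_
  · rintro _ ⟨b, hb, rfl⟩
    refine ⟨⟨b, hb.1, rfl⟩, ?_⟩
    rintro _ ⟨c, hc, rfl⟩
    rw [← map_mul, ← map_mul, hb.2 c hc]
  · rintro _ ⟨⟨b, hb, rfl⟩, hb'⟩
    exact ⟨b, ⟨hb, fun c hc => hf (by rw [map_mul, map_mul]; exact hb' _ ⟨c, hc, rfl⟩)⟩, rfl⟩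

theorem map_le_normalizer_iff (hf : Function.Injective f) {A B : Subgroup X} :
    A.map f ≤ normalizer (B.map f : Set P) ↔ A ≤ normalizer (B : Set X) := by
  constructor
  · intro h a ha
    rw [← commutator_le_iff_normalizes] at h
    rw [← Subgroup.map_commutator, map_le_map_iff_of_injective hf, commutator_le_iff_normalizes] at h
    exact h ha
  · intro h
    rw [← commutator_le_iff_normalizes] at h ⊢
    rw [← Subgroup.map_commutator]
    exact map_mono h

theorem map_classTwo_iff (hf : Function.Injective f) {B : Subgroup X} :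
    B.map f ∈ classTwoSubgroups P ↔ B ∈ classTwoSubgroups X := by
  show ⁅B.map f, B.map f⁆ ≤ centralizer (B.map f : Set P) ↔ ⁅B, B⁆ ≤ centralizer (B : Set X)
  rw [← Subgroup.map_commutator]
  constructor
  · intro h c hc b hb
    exact hf (by rw [map_mul, map_mul]; exact h ⟨c, hc, rfl⟩ _ ⟨b, hb, rfl⟩)
  · rintro h _ ⟨c, hc, rfl⟩ _ ⟨b, hb, rfl⟩
    rw [← map_mul, ← map_mul, h hc b hb]

theorem map_upper_iff (hf : Function.Injective f) {B Q : Subgroup X} :
    B.map f ∈ kUpperStarFamily (Q.map f) ↔ B ∈ kUpperStarFamily Q := by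
  show _ ∧ ⁅B.map f, Q.map f⁆ ≤ zc (B.map f) ↔ _ ∧ ⁅B, Q⁆ ≤ zc B
  rw [map_classTwo_iff hf, ← Subgroup.map_commutator, ← map_centralizer_inf hf, map_le_map_iff_of_injective hf]

theorem map_lower_iff (hf : Function.Injective f) {B Q : Subgroup X} :
    B.map f ∈ kLowerStarFamily (Q.map f) ↔ B ∈ kLowerStarFamily Q := by
  show _ ∧ _ ∧ (∀ A ∈ classTwoSubgroups P, A ≤ Q.map f → B.map f ≤ normalizer (A : Set P) →
      ⁅B.map f, ⁅A, A⁆⁆ = ⊥ → ⁅⁅zc (B.map f), A⁆, A⁆ = ⊥ → ⁅B.map f, A⁆ ≤ zc (B.map f)) ↔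
    _ ∧ _ ∧ (∀ A ∈ classTwoSubgroups X, A ≤ Q → B ≤ normalizer (A : Set X) →
      ⁅B, ⁅A, A⁆⁆ = ⊥ → ⁅⁅zc B, A⁆, A⁆ = ⊥ → ⁅B, A⁆ ≤ zc B)
  rw [map_classTwo_iff hf, map_le_normalizer_iff hf, ← map_centralizer_inf hf]
  refine and_congr_right fun _ => and_congr_right fun _ => ⟨fun h A hA hAQ hn h1 h2 => ?_, fun h A hA hAQ => ?_⟩
  · have := h (A.map f) ((map_classTwo_iff hf).2 hA) (map_mono hAQ) ((map_le_normalizer_iff hf).2 hn)
      (by rw [← Subgroup.map_commutator, ← Subgroup.map_commutator, h1, Subgroup.map_bot])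
      (by rw [← Subgroup.map_commutator, ← Subgroup.map_commutator, h2, Subgroup.map_bot])
    rwa [← Subgroup.map_commutator, map_le_map_iff_of_injective hf] at this
  · obtain ⟨A', rfl⟩ : ∃ A' : Subgroup X, A'.map f = A :=
      ⟨A.comap f, map_comap_eq_self ((hAQ.trans (map_le_range f Q)))⟩
    intro hn h1 h2
    rw [← Subgroup.map_commutator, ← Subgroup.map_commutator, Subgroup.map_eq_bot_iff_of_injective _ hf] at h1 h2
    rw [← Subgroup.map_commutator, map_le_map_iff_of_injective hf]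
    exact h A' ((map_classTwo_iff hf).1 hA) ((map_le_map_iff_of_injective hf).1 hAQ) ((map_le_normalizer_iff hf).1 hn) h1 h2

theorem map_sSup_lower (hf : Function.Injective f) (Q : Subgroup X) :
    (sSup (kLowerStarFamily Q)).map f = sSup {B | B ∈ kLowerStarFamily (Q.map f) ∧ B ≤ f.range} := by
  refine le_antisymm ?_ (sSup_le fun B hB => ?_)
  · rw [map_le_iff_le_comap]
    exact sSup_le fun B hB => map_le_iff_le_comap.1 (le_sSup (s := {B | B ∈ kLowerStarFamily (Q.map f) ∧ B ≤ f.range})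
      ⟨(map_lower_iff hf).2 hB, map_le_range f B⟩)
  · obtain ⟨B', rfl⟩ : ∃ B' : Subgroup X, B'.map f = B := ⟨B.comap f, map_comap_eq_self hB.2⟩
    exact map_mono (le_sSup ((map_lower_iff hf).1 hB.1))

theorem map_sSup_upper (hf : Function.Injective f) (Q : Subgroup X) :
    (sSup (kUpperStarFamily Q)).map f = sSup {B | B ∈ kUpperStarFamily (Q.map f) ∧ B ≤ f.range} := by
  refine le_antisymm ?_ (sSup_le fun B hB => ?_)
  · rw [map_le_iff_le_comap]
    exact sSup_le fun B hB => map_le_iff_le_comap.1 (le_sSup (s := {B | B ∈ kUpperStarFamily (Q.map f) ∧ B ≤ f.range})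
      ⟨(map_upper_iff hf).2 hB, map_le_range f B⟩)
  · obtain ⟨B', rfl⟩ : ∃ B' : Subgroup X, B'.map f = B := ⟨B.comap f, map_comap_eq_self hB.2⟩
    exact map_mono (le_sSup ((map_upper_iff hf).1 hB.1))

/-- The K-sequences of a subgroup containing all terms are interleaved with those of the group. -/
theorem map_seq (hf : Function.Injective f)
    (hQ : ∀ n : ℕ, kSeqEven P n ≤ f.range ∧ kSeqOdd P (n + 1) ≤ f.range) (n : ℕ) :
    (kSeqOdd P (n + 1) ≤ (kSeqOdd X n).map f ∧ (kSeqOdd X n).map f ≤ kSeqOdd P n) ∧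
      kSeqEven P n ≤ (kSeqEven X n).map f ∧ (kSeqEven X n).map f ≤ kSeqEven P (n + 1) := by
  have even : ∀ n, kSeqOdd P (n + 1) ≤ (kSeqOdd X n).map f → (kSeqOdd X n).map f ≤ kSeqOdd P n →
      kSeqEven P n ≤ (kSeqEven X n).map f ∧ (kSeqEven X n).map f ≤ kSeqEven P (n + 1) := by
    intro n h1 h2
    unfold kSeqEven
    rw [map_sSup_lower hf]
    exact ⟨sSup_le fun B hB => le_sSup ⟨lower_antitone h2 hB, (le_sSup hB).trans (hQ n).1⟩,
      sSup_le fun B hB => le_sSup (lower_antitone h1 hB.1)⟩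
  induction n with
  | zero =>
    have h1 : kSeqOdd P (0 + 1) ≤ (kSeqOdd X 0).map f := by
      show _ ≤ (⊤ : Subgroup X).map f
      rw [← MonoidHom.range_eq_map]
      exact (hQ 0).2
    have h2 : (kSeqOdd X 0).map f ≤ kSeqOdd P 0 := le_top
    exact ⟨⟨h1, h2⟩, even 0 h1 h2⟩
  | succ n ih =>
    have h1 : kSeqOdd P (n + 1 + 1) ≤ (kSeqOdd X (n + 1)).map f := by
      show _ ≤ (sSup (kUpperStarFamily (kSeqEven X n))).map f
      rw [map_sSup_upper hf]
      exact sSup_le fun B hB => le_sSup ⟨upper_antitone ih.2.2 hB, (le_sSup hB).trans (hQ (n + 1)).2⟩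
    have h2 : (kSeqOdd X (n + 1)).map f ≤ kSeqOdd P (n + 1) := by
      show (sSup (kUpperStarFamily (kSeqEven X n))).map f ≤ _
      rw [map_sSup_upper hf]
      exact sSup_le fun B hB => le_sSup (upper_antitone ih.2.1 hB.1)
    exact ⟨⟨h1, h2⟩, even (n + 1) h1 h2⟩

theorem map_kInf [Finite P] (hf : Function.Injective f)
    (hQ : ∀ n : ℕ, kSeqEven P n ≤ f.range ∧ kSeqOdd P (n + 1) ≤ f.range) :
    (kInfLower X).map f = kInfLower P ∧ (kInfUpper X).map f = kInfUpper P := by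
  haveI : Finite X := Finite.of_injective f hf
  refine ⟨le_antisymm ?_ (iSup_le fun n => ?_), ?_⟩
  · unfold kInfLower
    rw [Subgroup.map_iSup]
    exact iSup_le fun n => (map_seq hf hQ n).2.2.trans (le_iSup (kSeqEven P) (n + 1))
  · exact (map_seq hf hQ n).2.1.trans (map_mono (le_iSup (kSeqEven X) n))
  · obtain ⟨n, hn⟩ := exists_stable (P := P)
    obtain ⟨m, hm⟩ := exists_stable (P := X)
    set N := max n m + 1 with hN
    rw [← (hm N (by omega)).2]
    refine le_antisymm ?_ ?_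
    · rw [← (hn N (by omega)).2]; exact (map_seq hf hQ N).1.2
    · rw [← (hn (N + 1) (by omega)).2]; exact (map_seq hf hQ N).1.1

end Map

theorem map_kInf_equiv {Q : Type*} [Group Q] [Finite P] (e : Q ≃* P) :
    (kInfLower Q).map e.toMonoidHom = kInfLower P ∧ (kInfUpper Q).map e.toMonoidHom = kInfUpper P := by
  refine map_kInf e.injective fun n => ?_
  rw [MonoidHom.range_eq_top.2 e.surjective]
  exact ⟨le_top, le_top⟩

end CfsgLib.KInf
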