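import Cfsg.Agent.Lib.Techniques.SectionReduction
import Cfsg.Agent.Lib.Techniques.NormKill
import Cfsg.Agent.Lib.Techniques.ChiefFactor
import Cfsg.Agent.Lib.Techniques.FactorBound
import Cfsg.Agent.Lib.Techniques.FactorKernel
import Cfsg.Agent.Lib.Techniques.Functors
import Cfsg.Agent.Lib.Transfer.ZJComplement

/-!
Normal `p`-complement theorems for functors from local hypotheses on sections.
-/

set_option autoImplicit false
set_option linter.unusedSectionVars false

namespace CfsgLib.KInf

open Cfsg Subgroup CfsgLib.Techniques CfsgLib.Transfer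
open scoped commutatorElement

universe u

variable {p : ℕ} [Fact p.Prime]

open Classical in
/-- The functor induced by `W`, as a functorial choice of subgroups of `p`-groups. -/
noncomputable def funK (p : ℕ) (W : ∀ (Q : Type u) [Group Q], Subgroup Q) (G : Type u) [Group G]
    (R : Subgroup G) : Subgroup G :=
  if IsPGroup p R then inducedFunctor W R else ⊥

theorem subgroupFunctor_funK {W : ∀ (Q : Type u) [Group Q], Subgroup Q} (hW : IsCharPFunctor.{u} p W) :
    SubgroupFunctor.{u} p (fun G _ R => funK p W G R) where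
  le G _ _ R := by
    unfold funK
    split_ifs
    · exact inducedFunctor_le W R
    · exact bot_le
  map G H _ _ _ _ f R hf := by
    unfold funK
    have hinj : Function.Injective (f.subgroupMap R) := fun x y h => hf (congrArg Subtype.val h)
    by_cases h : IsPGroup p R
    · rw [if_pos h, if_pos (h.map f)]
      refine (inducedFunctor_map hW h f fun x hx h1 => ?_).symm
      exact congrArg Subtype.val (@hf ⟨x, hx⟩ 1 (by simpa using h1))
    · rw [if_neg h, if_neg ?_, Subgroup.map_bot]
      intro h'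
      exact h (h'.of_injective (f.subgroupMap R) hinj)
  ne_bot G _ _ R hR hne := by
    unfold funK
    rw [if_pos hR]
    exact functor_ne_bot (isConjugacyFunctor_induced hW) hR hne

theorem funK_eq {W : ∀ (Q : Type u) [Group Q], Subgroup Q} {G : Type u} [Group G] {R : Subgroup G}
    (hR : IsPGroup p R) : funK p W G R = inducedFunctor W R := by
  unfold funK
  rw [if_pos hR]

/-- A normal `p`-complement theorem: only minimal configurations with non-normal `W(P)` matter. -/
theorem hasNormalPComplement_of_functor {W : ∀ (Q : Type u) [Group Q], Subgroup Q} (hW : IsCharPFunctor.{u} p W)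
    {Pr : ∀ (X : Type u) [Group X], Prop}
    (hcore : ∀ (X : Type u) [Group X] [Finite X] (P : Sylow p X), MinimalConfig p X P → SectionsSatisfy X Pr →
      (inducedFunctor (G := X) W (P : Subgroup X)).Normal)
    {G : Type u} [Group G] [Finite G] (S : Sylow p G) (hsec : SectionsSatisfy G Pr)
    (hN : HasNormalPComplement p (normalizer (inducedFunctor W (S : Subgroup G) : Set G))) :
    HasNormalPComplement p G := by
  refine hasNormalPComplement_of_sections (subgroupFunctor_funK hW).localCondition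
    (fun X _ _ P hm hs hcd => hm.not_comp ?_) S hsec (by rw [funK_eq S.isPGroup']; exact hN)
  rw [funK_eq P.isPGroup', normalizer_eq_top_iff.2 (hcore X P hm hs)] at hcd
  exact (hasNormalPComplement_congr topEquiv).mp hcd

variable {G : Type u} [Group G] [Finite G] {P : Sylow p G}

theorem quotient_pCore_complement (h : MinimalConfig p G P) :
    HasNormalPComplement p (G ⧸ pCore p G) := by
  obtain ⟨K, hKn, hPK', htop, hPK, -, m, hm, hKm⟩ := h.exists_complement
  set π := QuotientGroup.mk' (pCore p G) with hπ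
  have hs := QuotientGroup.mk'_surjective (pCore p G)
  haveI : (K.map π).Normal := hKn.map π hs
  refine hasNormalPComplement_iff_exists.2 ⟨K.map π, inferInstance, fun hd => ?_, ?_⟩
  · obtain ⟨⟨_, k, hk, rfl⟩, hx⟩ := exists_prime_orderOf_dvd_card' p hd
    replace hx : orderOf (π k) = p := (Subgroup.orderOf_coe _).trans hx
    refine (Nat.Prime.coprime_iff_not_dvd Fact.out).1 hm (hx ▸ orderOf_dvd_of_pow_eq_one ?_)
    rw [← map_pow]
    exact (QuotientGroup.eq_one_iff _).2 (hKm k hk)
  · have hq : IsPGroup p ((G ⧸ pCore p G) ⧸ K.map π) := by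
      intro x
      obtain ⟨y, rfl⟩ := QuotientGroup.mk'_surjective (K.map π) x
      obtain ⟨g, rfl⟩ := hs y
      have hg : g ∈ ((P : Subgroup G) ⊔ K : Subgroup G) := by rw [htop]; exact mem_top g
      obtain ⟨a, ha, b, hb, rfl⟩ := Subgroup.mem_sup_of_normal_right.1 hg
      obtain ⟨i, hi⟩ := P.isPGroup' ⟨a, ha⟩
      refine ⟨i, ?_⟩
      have e : QuotientGroup.mk' (K.map π) (π b) = 1 := (QuotientGroup.eq_one_iff _).2 ⟨b, hb, rfl⟩
      rw [map_mul, map_mul, e, mul_one, ← map_pow, ← map_pow]
      rw [show a ^ p ^ i = 1 from congrArg Subtype.val hi, map_one, map_one]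
    exact IsPGroup.iff_card.1 hq

theorem isCoatom_sylow (h : MinimalConfig p G P) : IsCoatom (P : Subgroup G) := by
  refine ⟨fun hP => h.not_comp (hasNormalPComplement_of_isPGroup ?_), fun U hU => ?_⟩
  · exact IsPGroup.of_equiv (hP ▸ P.isPGroup' : IsPGroup p (⊤ : Subgroup G)) topEquiv
  · by_contra hne
    exact hU.ne (h.maximal U hU.le hne).symm

/-- In a minimal configuration no element of `P` outside `O_p` is of norm zero on a chief factor
inside `O_p` on which it acts nontrivially. -/
theorem no_norm_zero (h : MinimalConfig p G P) {g : G} (hg : g ∈ (P : Subgroup G)) (hgP : g ∉ pCore p G)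
    {U V : Subgroup G} (hUV : IsChiefFactor U V) (hU : U ≤ pCore p G)
    (hit : iterCommutator U (zpowers g) (p - 1) ≤ V) (hne : ¬ ⁅U, zpowers g⁆ ≤ V) : False := by
  haveI := hUV.2.1
  haveI := hUV.2.2.1
  set O := pCore p G with hO
  have hOp : IsPGroup p O := CfsgLib.Base.isPGroup_pCore p G
  obtain ⟨K, hKn, hOK, htop, hPK, hKK, m, hm, hKm⟩ := h.exists_complement
  haveI := hKn
  obtain ⟨hUU, hexp⟩ := chiefFactor_pGroup hUV (hOp.to_le hU)
  -- the kernel of the action on `U / V`
  set C0 := factorKer (fun U' V' : Subgroup G => U' = U ∧ V' = V) with hC0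
  have hmemC : ∀ c, c ∈ C0 ↔ ∀ x ∈ U, ⁅c, x⁆ ∈ V := fun c =>
    ⟨fun hc => hc U V hUV ⟨rfl, rfl⟩, fun hc U' V' _ hUV' => by
      obtain ⟨rfl, rfl⟩ := hUV'
      exact hc⟩
  have hOC : O ≤ C0 := fun c hc => (hmemC c).2 fun x hx =>
    commutator_le_of_chiefFactor hOp hUV hU (commutator_mem_commutator hc hx)
  have hgC : g ∉ C0 := by
    intro hgc
    refine hne ?_
    rw [commutator_comm, commutator_le]
    intro a ha x hx
    exact (hmemC a).1 ((zpowers_le.2 hgc) ha) x hx
  have hKC : ¬ K ≤ C0 := by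
    intro hKC
    set π := QuotientGroup.mk' V with hπ
    have hsub : ((U.map π).subgroupOf ((P : Subgroup G).map π)) ≠ ⊥ := fun h0 => by
      have hle : U.map π ≤ (P : Subgroup G).map π := map_mono (hU.trans h.pCore_lt.le)
      have := congrArg (Subgroup.map ((P : Subgroup G).map π).subtype) h0
      rw [map_subgroupOf_eq_of_le hle, Subgroup.map_bot, Subgroup.map_eq_bot_iff, hπ, QuotientGroup.ker_mk'] at this
      exact hUV.1.not_ge this
    haveI : (U.map π).Normal := hUV.2.1.map π (QuotientGroup.mk'_surjective V)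
    haveI : ((U.map π).subgroupOf ((P : Subgroup G).map π)).Normal := inferInstance
    obtain ⟨y, hy, hyne⟩ : ∃ y ∈ (U.map π).subgroupOf ((P : Subgroup G).map π) ⊓ center _, y ≠ 1 :=
      (bot_or_exists_ne_one _).resolve_left (CfsgLib.PGroups.inf_center_ne_bot (P.isPGroup'.map π) hsub)
    obtain ⟨x, hx, hxy⟩ := mem_subgroupOf.1 hy.1
    let W : Subgroup G :=
      { carrier := {w | w ∈ U ∧ ∀ a : G, π a * π w = π w * π a}
        one_mem' := ⟨U.one_mem, fun a => by simp⟩
        mul_mem' := fun {v w} hv hw => ⟨mul_mem hv.1 hw.1, fun a => by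
          rw [map_mul, ← mul_assoc, hv.2 a, mul_assoc, hw.2 a, mul_assoc]⟩
        inv_mem' := fun {v} hv => ⟨inv_mem hv.1, fun a => by
          rw [map_inv]
          exact ((show Commute (π a) (π v) from hv.2 a).inv_right).eq⟩ }
    haveI : W.Normal := ⟨fun w hw a => by
      refine ⟨hUV.2.1.conj_mem w hw.1 a, fun b => ?_⟩
      have e : π (a * w * a⁻¹) = π w := by rw [map_mul, map_mul, hw.2 a, map_inv, mul_inv_cancel_right]
      rw [e]
      exact hw.2 b⟩
    have hxW : x ∈ W := by
      refine ⟨hx, fun a => ?_⟩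
      have ha : a ∈ ((P : Subgroup G) ⊔ K : Subgroup G) := by rw [htop]; exact mem_top a
      obtain ⟨s, hs, k, hk, rfl⟩ := Subgroup.mem_sup_of_normal_right.1 ha
      have h1 : π s * π x = π x * π s := by
        rw [hxy]
        exact congrArg Subtype.val (mem_center_iff.1 hy.2 ⟨π s, mem_map_of_mem π hs⟩)
      have h2 : π k * π x = π x * π k := by
        rw [← commutatorElement_eq_one_iff_mul_comm, ← map_commutatorElement]
        exact (QuotientGroup.eq_one_iff _).2 ((hmemC k).1 (hKC hk) x hx)
      rw [map_mul, mul_assoc, h2, ← mul_assoc, h1, mul_assoc]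
    have hVW : V ≤ W := fun v hv => ⟨hUV.1.le hv, fun a => by
      rw [show π v = 1 from (QuotientGroup.eq_one_iff v).2 hv, one_mul, mul_one]⟩
    rcases hUV.2.2.2 W inferInstance hVW (fun w hw => hw.1) with he | he
    · rw [he] at hxW
      exact hyne (Subtype.ext (hxy ▸ (QuotientGroup.eq_one_iff x).2 hxW))
    · refine hgC ((hmemC g).2 fun w hw => (QuotientGroup.eq_one_iff _).1 ?_)
      show π ⁅g, w⁆ = 1
      rw [map_commutatorElement, commutatorElement_eq_one_iff_mul_comm]
      exact (he.ge hw).2 g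
  have hKCO : K ⊓ C0 ≤ O := by
    by_contra hnot
    refine hKC ?_
    have hne' : (P : Subgroup G) ⊔ (K ⊓ C0) = ⊤ := by
      by_contra hU'
      refine hnot ((le_inf ?_ inf_le_left).trans hPK.le)
      exact le_sup_right.trans (h.maximal _ le_sup_left hU').le
    intro k hk
    have hk' : k ∈ ((P : Subgroup G) ⊔ (K ⊓ C0) : Subgroup G) := by rw [hne']; exact mem_top k
    obtain ⟨a, ha, b, hb, rfl⟩ := Subgroup.mem_sup_of_normal_right.1 hk'
    have haK : a ∈ K := by simpa using mul_mem hk (inv_mem hb.1)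
    exact mul_mem (hOC (hPK.le ⟨ha, haK⟩)) hb.2
  have hC0O : C0 ≤ O := by
    refine CfsgLib.Base.le_pCore (isPGroup_of_pPrime_trivial fun c hc hcp => ?_)
    have hq : IsPGroup p (G ⧸ K) := by
      intro x
      obtain ⟨a, rfl⟩ := QuotientGroup.mk'_surjective K x
      have ha : a ∈ ((P : Subgroup G) ⊔ K : Subgroup G) := by rw [htop]; exact mem_top a
      obtain ⟨s, hs, k, hk, rfl⟩ := Subgroup.mem_sup_of_normal_right.1 ha
      obtain ⟨i, hi⟩ := P.isPGroup' ⟨s, hs⟩
      refine ⟨i, ?_⟩
      rw [map_mul, show QuotientGroup.mk' K k = 1 from (QuotientGroup.eq_one_iff k).2 hk, mul_one, ← map_pow,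
        show s ^ p ^ i = 1 from congrArg Subtype.val hi, map_one]
    have hcK : c ∈ K := (QuotientGroup.eq_one_iff c).1
      (eq_one_of_coprime_orderOf hq (Nat.Coprime.coprime_dvd_left (orderOf_map_dvd (QuotientGroup.mk' K) c) hcp))
    exact congrArg Subtype.val (eq_one_of_coprime_orderOf hOp (x := (⟨c, hKCO ⟨hcK, hc⟩⟩ : O)) (by
      rwa [Subgroup.orderOf_mk]))
  -- the last power of `g` outside `O`
  classical
  have hex : ∃ j, g ^ p ^ j ∈ O := by
    obtain ⟨j, hj⟩ := P.isPGroup' ⟨g, hg⟩
    exact ⟨j, by rw [show g ^ p ^ j = 1 from congrArg Subtype.val hj]; exact O.one_mem⟩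
  obtain ⟨j, hj⟩ : ∃ j, Nat.find hex = j + 1 := Nat.exists_eq_succ_of_ne_zero fun h0 => hgP (by
    have := Nat.find_spec hex
    rwa [h0, pow_zero, pow_one] at this)
  set u := g ^ p ^ j with hu
  have huO : u ∉ O := Nat.find_min hex (by omega)
  have hup : u ^ p ∈ O := by
    have := Nat.find_spec hex
    rwa [hj, pow_succ, pow_mul] at this
  have huP : u ∈ (P : Subgroup G) := pow_mem hg _
  have hit' : iterCommutator U (zpowers u⁻¹) (p - 1) ≤ V := by
    rw [zpowers_inv]
    exact (CfsgLib.Techniques.iterCommutator_mono le_rfl (zpowers_le.2 (pow_mem (mem_zpowers g) _)) _).trans hit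
  -- the module
  set π := QuotientGroup.mk' V with hπ
  set Ub := U.map π with hUb
  haveI : Ub.Normal := hUV.2.1.map π (QuotientGroup.mk'_surjective V)
  letI : CommGroup Ub :=
    { (inferInstance : Group Ub) with
      mul_comm := by
        rintro ⟨_, a, ha, rfl⟩ ⟨_, b, hb, rfl⟩
        refine Subtype.ext ?_
        show π a * π b = π b * π a
        rw [← commutatorElement_eq_one_iff_mul_comm, ← map_commutatorElement]
        exact (QuotientGroup.eq_one_iff _).2 (hUU (commutator_mem_commutator ha hb)) }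
  let ρ0 : G →* AddMonoid.End (Additive Ub) :=
    { toFun := fun a => (MulAut.conjNormal (H := Ub) (π a)).toMonoidHom.toAdditive
      map_one' := AddMonoidHom.ext fun x => by
        show Additive.ofMul (MulAut.conjNormal (π 1) (Additive.toMul x)) = x
        rw [map_one, map_one]
        rfl
      map_mul' := fun a b => AddMonoidHom.ext fun x => by
        show Additive.ofMul (MulAut.conjNormal (π (a * b)) (Additive.toMul x)) =
          Additive.ofMul (MulAut.conjNormal (π a) (MulAut.conjNormal (π b) (Additive.toMul x)))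
        rw [map_mul, map_mul]
        rfl }
  have hker : ∀ a, ρ0 a = 1 ↔ a ∈ C0 := by
    intro a
    rw [hmemC]
    constructor
    · intro ha x hx
      have h1 : ((MulAut.conjNormal (π a) ⟨π x, x, hx, rfl⟩ : Ub) : G ⧸ V) = π x :=
        congrArg (fun e : AddMonoid.End (Additive Ub) =>
          ((Additive.toMul (e (Additive.ofMul (⟨π x, x, hx, rfl⟩ : Ub))) : Ub) : G ⧸ V)) ha
      rw [MulAut.conjNormal_apply] at h1
      refine (QuotientGroup.eq_one_iff _).1 ?_
      show π ⁅a, x⁆ = 1
      rw [map_commutatorElement, commutatorElement_def, h1, mul_inv_cancel]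
    · intro ha
      refine AddMonoidHom.ext fun x => ?_
      obtain ⟨⟨_, w, hw, rfl⟩, rfl⟩ := Additive.ofMul.surjective x
      refine congrArg Additive.ofMul (Subtype.ext ?_)
      show (MulAut.conjNormal (π a) ⟨π w, _⟩ : G ⧸ V) = π w
      rw [MulAut.conjNormal_apply]
      have h1 : π ⁅a, w⁆ = 1 := (QuotientGroup.eq_one_iff _).2 (ha w hw)
      rw [map_commutatorElement, commutatorElement_def, mul_inv_eq_one] at h1
      exact h1
  set q := QuotientGroup.mk' O with hq
  let ρ : G ⧸ O →* AddMonoid.End (Additive Ub) :=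
    QuotientGroup.lift O ρ0 fun a ha => (hker a).2 (hOC ha)
  have hρ : Function.Injective ρ := by
    intro a b hab
    obtain ⟨a, rfl⟩ := QuotientGroup.mk'_surjective O a
    obtain ⟨b, rfl⟩ := QuotientGroup.mk'_surjective O b
    replace hab : ρ0 a = ρ0 b := hab
    refine QuotientGroup.eq.2 (hC0O ((hker _).1 ?_))
    rw [map_mul, ← hab, ← map_mul, inv_mul_cancel, map_one]
  have hN : ∀ x : Additive Ub, ∑ i ∈ Finset.range p, ρ (q u ^ i) x = 0 := by
    intro x
    obtain ⟨⟨_, w, hw, rfl⟩, rfl⟩ := Additive.ofMul.surjective x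
    let a : G → Additive Ub := fun z => if hz : z ∈ U then Additive.ofMul ⟨π z, z, hz, rfl⟩ else 0
    have h0 := sum_conj_eq_zero (a := a) hexp hit' (fun y hy z hz => by
        simp only [a, dif_pos hy, dif_pos hz, dif_pos (mul_mem hy hz)]
        rw [← ofMul_mul]
        exact congrArg Additive.ofMul (Subtype.ext (map_mul π y z)))
      (fun v hv => by
        simp only [a, dif_pos (hUV.1.le hv), ofMul_eq_zero]
        exact Subtype.ext ((QuotientGroup.eq_one_iff v).2 hv)) hw
    refine Eq.trans (Finset.sum_congr rfl fun i _ => ?_) h0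
    rw [← map_pow]
    have hz : ((u⁻¹) ^ i)⁻¹ * w * (u⁻¹) ^ i ∈ U := by
      simpa using hUV.2.1.conj_mem w hw ((u⁻¹) ^ i)⁻¹
    show Additive.ofMul (MulAut.conjNormal (π (u ^ i)) ⟨π w, _⟩) = a _
    simp only [a, dif_pos hz]
    refine congrArg Additive.ofMul (Subtype.ext ?_)
    rw [MulAut.conjNormal_apply]
    show π (u ^ i) * π w * (π (u ^ i))⁻¹ = π (((u⁻¹) ^ i)⁻¹ * w * (u⁻¹) ^ i)
    simp [inv_pow]
  have hM : ∀ x : Additive Ub, p • x = 0 := by
    intro x
    obtain ⟨⟨_, w, hw, rfl⟩, rfl⟩ := Additive.ofMul.surjective x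
    refine congrArg Additive.ofMul (Subtype.ext ?_)
    show (π w) ^ p = 1
    rw [← map_pow]
    exact (QuotientGroup.eq_one_iff _).2 (hexp w hw)
  have hKab : ∀ a ∈ K.map q, ∀ b ∈ K.map q, a * b = b * a := by
    rintro _ ⟨a, ha, rfl⟩ _ ⟨b, hb, rfl⟩
    rw [← commutatorElement_eq_one_iff_mul_comm, ← map_commutatorElement]
    exact (QuotientGroup.eq_one_iff _).2 (hKK (commutator_mem_commutator ha hb))
  haveI : (K.map q).Normal := hKn.map q (QuotientGroup.mk'_surjective O)
  have hcomm : ∀ k ∈ K, q k * q u = q u * q k := fun k hk =>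
    centralizes_of_norm_eq_zero ρ hρ (u := q u)
      (by rw [← map_pow]; exact (QuotientGroup.eq_one_iff _).2 hup) hN hM hKab
      (by rw [normalizer_eq_top]; exact mem_top _) hm
      (by rintro _ ⟨a, ha, rfl⟩; rw [← map_pow]; exact (QuotientGroup.eq_one_iff _).2 (hKm a ha))
      (mem_map_of_mem q hk)
  let L : Subgroup G := (P : Subgroup G) ⊓ (centralizer (K.map q : Set (G ⧸ O))).comap q
  haveI : (centralizer (K.map q : Set (G ⧸ O))).Normal := by
    constructor
    intro c hc a b hb
    have hb' : a⁻¹ * b * a ∈ K.map q := by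
      have := (inferInstance : (K.map q).Normal).conj_mem b hb a⁻¹
      rwa [inv_inv] at this
    calc b * (a * c * a⁻¹) = a * ((a⁻¹ * b * a) * c) * a⁻¹ := by group
      _ = a * (c * (a⁻¹ * b * a)) * a⁻¹ := by rw [hc _ hb']
      _ = a * c * a⁻¹ * b := by group
  haveI : L.Normal := by
    constructor
    intro l hl a
    have hl2 : q l ∈ centralizer (K.map q : Set (G ⧸ O)) := hl.2
    have ha : a ∈ ((P : Subgroup G) ⊔ K : Subgroup G) := by rw [htop]; exact mem_top a
    obtain ⟨s, hs, k, hk, rfl⟩ := Subgroup.mem_sup_of_normal_right.1 ha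
    refine ⟨?_, (inferInstance : ((centralizer (K.map q : Set (G ⧸ O))).comap q).Normal).conj_mem l hl2 _⟩
    have h1 : (k * l * k⁻¹) * l⁻¹ ∈ O := by
      refine (QuotientGroup.eq_one_iff _).1 ?_
      show q _ = 1
      rw [map_mul, map_mul, map_mul, hl2 _ (mem_map_of_mem q hk), map_inv, map_inv, mul_inv_cancel_right, mul_inv_cancel]
    have h2 : k * l * k⁻¹ ∈ (P : Subgroup G) := by
      simpa using mul_mem (h.pCore_lt.le h1) hl.1
    have h3 := mul_mem (mul_mem hs h2) (inv_mem hs)
    show s * k * l * (s * k)⁻¹ ∈ (P : Subgroup G)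
    rw [show s * k * l * (s * k)⁻¹ = s * (k * l * k⁻¹) * s⁻¹ by group]
    exact h3
  refine huO (CfsgLib.Base.le_pCore (N := L) (P.isPGroup'.to_le inf_le_left) ⟨huP, ?_⟩)
  rintro _ ⟨k, hk, rfl⟩
  exact hcomm k hk

end CfsgLib.KInf
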