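import Cfsg.Agent.Lib.KInf.Complement
import Cfsg.Agent.Lib.KInf.Degree
import Cfsg.Agent.Lib.Techniques.Invariance
import Cfsg.Agent.Lib.LocalEven.CharP
import Cfsg.Agent.Lib.Techniques.MinimalFailure

/-!
Applications of the normal `p`-complement reduction.
-/

set_option autoImplicit false
set_option linter.unusedSectionVars false

namespace CfsgLib.KInf

open Cfsg Subgroup CfsgLib.Techniques CfsgLib.Transfer
open scoped commutatorElement

universe u

theorem npc_quotient_congr {p : ℕ} [Fact p.Prime] {Y Z : Type u} [Group Y] [Group Z] [Finite Y] [Finite Z]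
    (e : Y ≃* Z) (h : HasNormalPComplement p (Y ⧸ pCore p Y)) : HasNormalPComplement p (Z ⧸ pCore p Z) :=
  (hasNormalPComplement_congr (QuotientGroup.congr _ _ e (CfsgLib.Base.map_pCore_mulEquiv e))).mp h

theorem npc_normalizer_of_centralizing {G : Type*} [Group G] [Finite G] {p : ℕ} [Fact p.Prime]
    (S : Sylow p G) {T : Subgroup G} (hTn : (S : Subgroup G) ≤ normalizer (T : Set G))
    (hC : (S : Subgroup G) ⊓ centralizer (T : Set G) ≤ T)
    (hN : ∀ g ∈ normalizer (T : Set G), (orderOf g).Coprime p → g ∈ centralizer (T : Set G)) :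
    HasNormalPComplement p (normalizer (T : Set G)) := by
  set N := normalizer (T : Set G) with hNdef
  set C := centralizer (T : Set G) with hCdef
  have hCN : C ≤ N := centralizer_le_normalizer _
  have hQ : SylIn p ((S : Subgroup G) ⊓ C) C :=
    ((sylIn_top S).mono hTn le_top).inf_normal hCN (CfsgLib.LocalEven.normalizer_le_normalizer_centralizer _)
  set Q := (S : Subgroup G) ⊓ C with hQdef
  obtain ⟨QS, hQS⟩ := SylIn.to_sylow (p := p) (G := C) (T := Q.subgroupOf C)
    ⟨le_top, hQ.isPGroup.comap_subtype, by rw [relIndex_top_right]; exact hQ.not_dvd⟩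
  have hcomp := hasNormalPComplement_of_normalizer_le_centralizer QS fun c _ q hq => by
    rw [hQS] at hq
    exact Subtype.ext (c.2 (q : G) (hC hq))
  rw [hasNormalPComplement_iff_pResidual] at hcomp ⊢
  have e : (pResidual p N).map N.subtype = (pResidual p C).map C.subtype := by
    rw [Cfsg.pResidual, Cfsg.pResidual, MonoidHom.map_closure, MonoidHom.map_closure]
    congr 1
    ext g
    constructor
    · rintro ⟨x, hx, rfl⟩
      have hx' : (orderOf (x : G)).Coprime p := by rwa [Subgroup.orderOf_coe]
      exact ⟨⟨x, hN x x.2 hx'⟩, show (orderOf (⟨x, _⟩ : C)).Coprime p by rwa [Subgroup.orderOf_mk], rfl⟩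
    · rintro ⟨x, hx, rfl⟩
      have hx' : (orderOf (x : G)).Coprime p := by rwa [Subgroup.orderOf_coe]
      exact ⟨⟨x, hCN x.2⟩, show (orderOf (⟨x, _⟩ : N)).Coprime p by rwa [Subgroup.orderOf_mk], rfl⟩
  rwa [← card_map_of_injective N.subtype_injective, e, card_map_of_injective C.subtype_injective]

variable {G : Type u} [Group G] [Finite G] {p : ℕ} [Fact p.Prime]

theorem kInf_normal_minimal {X : Type u} [Group X] [Finite X] (hp : p ≠ 2) (P : Sylow p X)
    (hm : MinimalConfig p X P) : (inducedFunctor (G := X) Cfsg.kInfLower.{u} (P : Subgroup X)).Normal := by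
  by_contra hn
  obtain ⟨A, hA, -⟩ := exists_critical_core p X
  obtain ⟨g, hgP, hg⟩ := exists_good hA P (Or.inl hn)
  obtain ⟨U, V, hUV, hU, hq, hne⟩ := hg.2.2.2 hm.centralizer_le
  haveI := hUV.2.2.1
  have h2 : 2 ≤ p - 1 := by have := (Fact.out : p.Prime).two_le; omega
  exact no_norm_zero hm hgP hg.1 hUV (hU.trans hA.le)
    (iterCommutator_antitone_le h2 hq) hne

theorem hasNormalPComplement_kInf (hp : p ≠ 2) (S : Sylow p G)
    (h : HasNormalPComplement p (normalizer (inducedFunctor Cfsg.kInfLower.{u} (S : Subgroup G) : Set G))) :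
    HasNormalPComplement p G :=
  hasNormalPComplement_of_functor (Pr := fun _ _ => True) (isCharPFunctor_kInfLower p)
    (fun _ _ _ P hm _ => kInf_normal_minimal hp P hm) S (fun _ _ _ _ _ => trivial) h

end CfsgLib.KInf
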