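import Cfsg.Agent.Lib.KInf.Degree
import Cfsg.Agent.Lib.Techniques.Sections

/-!
Quadratic elements on the centre of `O_p(H)` for the subgroups `H` where K-infinity is not normal.
-/

set_option autoImplicit false
set_option linter.unusedSectionVars false

namespace CfsgLib.KInf

open Cfsg Subgroup CfsgLib.Techniques
open scoped commutatorElement

universe u

variable {G : Type u} [Group G] [Finite G] {p : ℕ} [Fact p.Prime]

theorem exists_quadratic_local (H T : Subgroup G) (hTH : T ≤ H) (hTp : IsPGroup p T)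
    (hTd : ¬ p ∣ T.relIndex H) (hn : ¬ H ≤ normalizer (inducedFunctor Cfsg.kInfLower.{u} T : Set G)) :
    ∃ g : G, g ∈ T ∧ g ∉ pCoreOf p H ∧
      ⁅⁅pCoreOf p H ⊓ centralizer ((pCoreOf p H : Subgroup G) : Set G), zpowers g⁆, zpowers g⁆ = ⊥ := by
  have hW := isCharPFunctor_kInfLower.{u} p
  have hS : SylIn p (T.subgroupOf H) (⊤ : Subgroup H) :=
    ⟨le_top, hTp.comap_subtype, by rw [relIndex_top_right]; exact hTd⟩
  obtain ⟨S, hSe⟩ := hS.to_sylow
  obtain ⟨g, hgS, hgP, -, hq, -⟩ := exists_degree_four S (Or.inl fun hN => hn (by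
    have h1 := inducedFunctor_map_of_injective hW S.isPGroup' (f := H.subtype) H.subtype_injective
    rw [hSe, map_subgroupOf_eq_of_le hTH] at h1
    rw [hSe] at hN
    rw [h1]
    haveI := hN
    refine le_trans ?_ (Subgroup.le_normalizer_map H.subtype)
    rw [normalizer_eq_top, ← MonoidHom.range_eq_map, Subgroup.range_subtype]))
  refine ⟨g, ?_, fun h => hgP ?_, ?_⟩
  · rw [hSe] at hgS
    exact hgS
  · obtain ⟨g', hg', he⟩ := h
    exact Subtype.ext he ▸ hg'
  · have hle : pCoreOf p H ⊓ centralizer ((pCoreOf p H : Subgroup G) : Set G) ≤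
        (pCore p H ⊓ centralizer ((pCore p H : Subgroup H) : Set H)).map H.subtype := by
      rintro _ ⟨⟨z, hz, rfl⟩, hc⟩
      exact ⟨z, ⟨hz, fun w hw => Subtype.ext (hc (w : G) ⟨w, hw, rfl⟩)⟩, rfl⟩
    have h1 := congrArg (Subgroup.map H.subtype) hq
    rw [Subgroup.map_bot, Subgroup.map_commutator, Subgroup.map_commutator, MonoidHom.map_zpowers] at h1
    exact le_bot_iff.1 ((commutator_mono (commutator_mono hle le_rfl) le_rfl).trans h1.le)

theorem center_le_kInfLower_induced :
    ∀ P : Subgroup G, IsPGroup p P → P ⊓ centralizer (P : Set G) ≤ inducedFunctor Cfsg.kInfLower.{u} P :=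
  fun _ hP => center_le_induced hP

end CfsgLib.KInf
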