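import Cfsg.Agent.Lib.KInf.Degree
import Cfsg.Agent.Lib.OddOrder.PStableCriterion

/-!
In a constrained group without `SL₂(p)` the K-infinity subgroup of any `p`-subgroup containing
`O_p` is normal.
-/

set_option autoImplicit false
set_option linter.unusedSectionVars false

namespace CfsgLib.KInf

open Cfsg Subgroup CfsgLib.Techniques
open scoped commutatorElement

universe u

variable {M : Type u} [Group M] [Finite M] {p : ℕ} [Fact p.Prime]

theorem no_good_of_not_involves (hp : p ≠ 2) (hno : ¬ CfsgLib.OddOrder.InvolvesSL2 p M)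
    (hc : centralizer ((pCore p M : Subgroup M) : Set M) ≤ pCore p M) {A : Subgroup M}
    (h : Critical p A) (g : M) : ¬ Good p A g := by
  intro hg
  obtain ⟨U, V, hUV, hU, hq, hne⟩ := hg.2.2.2 hc
  haveI := hUV.2.2.1
  have hUp : IsPGroup p U := (CfsgLib.Base.isPGroup_pCore p M).to_le (hU.trans h.le)
  set π := QuotientGroup.mk' V with hπ
  haveI : (U.map π).Normal := hUV.2.1.map π (QuotientGroup.mk'_surjective V)
  have hgn : π g ∈ normalizer ((U.map π : Subgroup (M ⧸ V)) : Set (M ⧸ V)) := by
    rw [normalizer_eq_top]; exact mem_top _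
  have hq' : ⁅⁅U.map π, zpowers (π g)⁆, zpowers (π g)⁆ = ⊥ := by
    rw [← MonoidHom.map_zpowers, ← Subgroup.map_commutator, ← Subgroup.map_commutator,
      Subgroup.map_eq_bot_iff, hπ, QuotientGroup.ker_mk']
    exact hq
  have hno' : ¬ CfsgLib.OddOrder.InvolvesSL2 p (M ⧸ V) := fun hh =>
    hno (hh.of_surjective π (QuotientGroup.mk'_surjective V))
  have hmem := CfsgLib.OddOrder.map_le_pCore_normalizer_quotient hp hno' (hUp.map π) hq'
    ⟨⟨π g, hgn⟩, mem_zpowers (π g), rfl⟩
  have hcen := pCore_quotient_centralizer_eq_bot hUV hUp hgn hmem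
  refine hne ?_
  rw [← QuotientGroup.ker_mk' V, ← Subgroup.map_eq_bot_iff, Subgroup.map_commutator,
    MonoidHom.map_zpowers, Subgroup.commutator_comm, commutator_eq_bot_iff_le_centralizer,
    zpowers_le]
  exact hcen

/-- No Sylow condition is needed. -/
theorem kInfLower_normal_of_pCore_le (hp : p ≠ 2) (hno : ¬ CfsgLib.OddOrder.InvolvesSL2 p M)
    (hc : centralizer ((pCore p M : Subgroup M) : Set M) ≤ pCore p M) {S : Subgroup M}
    (hPS : pCore p M ≤ S) : (inducedFunctor Cfsg.kInfLower.{u} S).Normal := by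
  obtain ⟨A, hA, -⟩ := exists_critical_core p M
  exact (normal_of_terms_le hPS
    (terms_le hA (hA.le.trans hPS) hPS fun g _ => no_good_of_not_involves hp hno hc hA g)).1

end CfsgLib.KInf
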