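import Cfsg.Agent.Lib.KInf.Fusion
import Cfsg.Agent.Lib.PLocal.QdBasic
import Cfsg.Agent.Lib.PLocal.QdOverApps

/-!
In `Qd(p)` no characteristic functor of a Sylow subgroup controls strong fusion.
-/

set_option autoImplicit false
set_option linter.unusedSectionVars false

namespace CfsgLib.KInf

open Cfsg Subgroup CfsgLib.Techniques CfsgLib.PLocal

universe u

variable {p : ℕ} [Fact p.Prime]

theorem qd_selfCentralizing :
    centralizer ((Affine.block (F := ZMod p)).ker : Set ↥(qdOver (ZMod p))) ≤
      (Affine.block (F := ZMod p)).ker := by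
  intro x hx
  obtain ⟨v, g, rfl⟩ := Affine.exists_elt_eq x
  rw [MonoidHom.mem_ker, Affine.block_elt]
  refine Affine.fixed_eq fun u => ?_
  have h := mem_centralizer_iff.1 hx (Affine.elt u 1) (Affine.mem_ker_iff.2 ⟨u, rfl⟩)
  rw [Affine.elt_mul, Affine.elt_mul, Matrix.SpecialLinearGroup.coe_one, Matrix.one_mulVec] at h
  exact add_left_cancel ((Affine.elt_injective h).1.symm.trans (add_comm u v))

variable {Q : Type u} [Group Q] [Finite Q]

theorem not_controls_of_equiv {W : ∀ (R : Type u) [Group R], Subgroup R} (hW : IsCharPFunctor.{u} p W)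
    (e : Q ≃* ↥(qd p)) (T : Sylow p Q) :
    ¬ ControlsStrongFusion p (inducedFunctor (G := Q) W (T : Subgroup Q)) := by
  rintro ⟨T', -, hfus⟩
  let f : Q ≃* ↥(qdOver (ZMod p)) := e
  set P := (Affine.block.comp f.toMonoidHom).ker with hP
  have hPp : IsPGroup p P :=
    ((Affine.isPGroup_ker (F := ZMod p) (p := p)).comap_of_injective f.toMonoidHom f.injective)
  have hPT : ∀ S : Sylow p Q, P ≤ (S : Subgroup Q) := fun S => hPp.le_sylow_of_normal S
  have hCP : centralizer (P : Set Q) ≤ P := by
    intro x hx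
    refine qd_selfCentralizing (mem_centralizer_iff.2 fun a ha => ?_)
    have h := mem_centralizer_iff.1 hx (f.symm a) (by
      show Affine.block (f (f.symm a)) = 1
      rw [f.apply_symm_apply]; exact ha)
    have h' := congrArg f h
    rwa [map_mul, map_mul, f.apply_symm_apply] at h'
  -- the normalizer of the functor's value
  let S : Sylow p ↥(qdOver (ZMod p)) := T.mapSurjective (f := f.toMonoidHom) f.surjective
  let ψ : ↥(T : Subgroup Q) ≃* ↥(S : Subgroup ↥(qdOver (ZMod p))) :=
    (T : Subgroup Q).equivMapOfInjective f.toMonoidHom f.injective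
  have hTne : Nontrivial ↥(T : Subgroup Q) := by
    rw [nontrivial_iff_ne_bot]
    intro hb
    have hb' : P = ⊥ := le_bot_iff.1 ((hPT T).trans hb.le)
    rw [hb'] at hCP
    have h1 : ∀ x : Q, x = 1 := fun x => mem_bot.1 (hCP (mem_centralizer_iff.2 fun a ha => by
      rw [SetLike.mem_coe, mem_bot] at ha
      rw [ha, one_mul, mul_one]))
    have h2 : (Affine.elt (![1, 0] : Fin 2 → ZMod p) 1) = 1 := by
      rw [← f.apply_symm_apply (Affine.elt _ 1), h1 (f.symm _), map_one]
    rw [← Affine.elt_one] at h2
    simpa using congrFun (Affine.elt_injective h2).1 0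
  haveI hWc : (W ↥(T : Subgroup Q)).Characteristic :=
    Subgroup.characteristic_iff_map_eq.2 fun φ => hW.2 _ _ T.2 φ
  have hc' : ((W ↥(T : Subgroup Q)).map ψ.toMonoidHom).Characteristic := by
    refine Subgroup.characteristic_iff_map_eq.2 fun α => ?_
    have h := Subgroup.characteristic_iff_map_eq.1 hWc ((ψ.trans α).trans ψ.symm)
    conv_rhs => rw [← h]
    rw [Subgroup.map_map, Subgroup.map_map]
    congr 1
    ext x
    simp
  have hne' : (W ↥(T : Subgroup Q)).map ψ.toMonoidHom ≠ ⊥ := by
    rw [Ne, map_eq_bot_iff_of_injective _ ψ.injective]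
    exact hW.1 _ T.2 hTne
  obtain ⟨heq, hne⟩ := Affine.normalizer_characteristic_sylow S _ hne' hc'
  have hmap : (((W ↥(T : Subgroup Q)).map ψ.toMonoidHom).map
      (S : Subgroup ↥(qdOver (ZMod p))).subtype) =
      (inducedFunctor (G := Q) W (T : Subgroup Q)).map f.toMonoidHom := by
    rw [inducedFunctor, Subgroup.map_map, Subgroup.map_map]
    congr 1
  set V := inducedFunctor (G := Q) W (T : Subgroup Q)
  have hNV : normalizer (V : Set Q) = normalizer ((T : Subgroup Q) : Set Q) := by
    apply Subgroup.map_injective (f := f.toMonoidHom) f.injective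
    rw [hmap] at heq
    rw [map_equiv_normalizer_eq _ f, map_equiv_normalizer_eq _ f]
    exact heq
  refine hne ?_
  have htop : normalizer (V : Set Q) = ⊤ := by
    refine top_le_iff.1 fun g _ => ?_
    obtain ⟨x, hx, hxa⟩ := (hfus (P : Set Q) (hPT T')).2 g (by
      rintro _ ⟨a, ha, rfl⟩
      exact hPT T' ((inferInstance : P.Normal).conj_mem a ha g))
    have hc : x⁻¹ * g ∈ P := hCP (mem_centralizer_iff.2 fun a ha => by
      calc a * (x⁻¹ * g) = x⁻¹ * (x * a * x⁻¹) * g := by group
        _ = x⁻¹ * (g * a * g⁻¹) * g := by rw [hxa a ha]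
        _ = _ := by group)
    rw [← mul_inv_cancel_left x g]
    refine mul_mem hx ?_
    rw [hNV]
    exact le_normalizer (hPT T hc)
  rw [hNV] at htop
  have h := congrArg (Subgroup.map f.toMonoidHom) htop
  rw [map_equiv_normalizer_eq _ f, Subgroup.map_top_of_surjective _ f.surjective] at h
  exact h

theorem qdFree_iff {G : Type u} [Group G] [Finite G] (hp : p ≠ 2)
    {W : ∀ (R : Type u) [Group R], Subgroup R} (hW : IsCharPFunctor.{u} p W)
    (hn : ∀ (X : Type u) [Group X], SectionsSatisfy X (fun Y _ => IsNormalizerPStable p Y) → Finite X →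
      SectionsSatisfy X fun Y _ => Constrained p Y → ∀ T : Sylow p Y,
        (inducedFunctor (G := Y) W (T : Subgroup Y)).Normal) :
    ¬ Involves ↥(qd p) G ↔ ∀ (K R : Subgroup G) [_hR : (R.subgroupOf K).Normal],
      ∀ T : Sylow p (↥K ⧸ R.subgroupOf K),
        ControlsStrongFusion p (inducedFunctor (G := (↥K ⧸ R.subgroupOf K)) W
          (T : Subgroup (↥K ⧸ R.subgroupOf K))) := by
  constructor
  · intro hno K R hR T
    have hst : SectionsSatisfy (↥K ⧸ R.subgroupOf K) fun Y _ => IsNormalizerPStable p Y := by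
      refine sectionsStable fun K' R' hR' => isNormalizerPStable_of_not_invHom hp fun h => hno ?_
      exact (((InvHom.of_surjective _ (QuotientGroup.mk'_surjective _) h).of_subgroup).of_surjective _
        (QuotientGroup.mk'_surjective _)).of_subgroup.involves
    exact strongFusion_of_sections hW (hn _ hst inferInstance) T
  · rintro h ⟨K, R, hR, ⟨e⟩⟩
    haveI := hR
    obtain ⟨T⟩ := (inferInstance : Nonempty (Sylow p (↥K ⧸ R.subgroupOf K)))
    exact not_controls_of_equiv hW e T (h K R T)

end CfsgLib.KInf
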