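import Cfsg.Agent.Lib.KInf.Control
import Cfsg.Agent.Lib.Transfer.NormalPComplement
import Mathlib.GroupTheory.Abelianization.Defs

/-!
If `p ≥ 5` and the `p'`-elements of the Sylow normaliser centralise the Sylow subgroup, there is
a nontrivial `p`-quotient (Glauberman).
-/

set_option autoImplicit false
set_option linter.style.haveILetI false

namespace CfsgLib.KInf

open Cfsg Subgroup CfsgLib.Techniques CfsgLib.Transfer

universe u

variable {p : ℕ} [Fact p.Prime]

theorem sylow_le_commutator_iff {G : Type*} [Group G] [Finite G] (S : Sylow p G) :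
    pResidual p G = ⊤ ↔ (S : Subgroup G) ≤ commutator G := by
  have hn := pResidual_normal (G := G) (p := p)
  constructor
  · intro h x hx
    have hsup : pResidual p (G ⧸ commutator G) = ⊤ := by
      rw [← pResidual_map_of_surjective (QuotientGroup.mk' (commutator G)) (QuotientGroup.mk'_surjective _), h,
        map_top_of_surjective _ (QuotientGroup.mk'_surjective _)]
    obtain ⟨n, hn⟩ := (S.2 ⟨x, hx⟩)
    have hxn : (QuotientGroup.mk' (commutator G) x) ^ p ^ n = 1 := by
      rw [← map_pow, show x ^ p ^ n = 1 from congrArg Subtype.val hn, map_one]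
    have hmem : QuotientGroup.mk' (commutator G) x ∈ pResidual p (G ⧸ commutator G) := hsup ▸ mem_top _
    letI : CommGroup (G ⧸ commutator G) := inferInstanceAs (CommGroup (Abelianization G))
    have hcop : (orderOf (QuotientGroup.mk' (commutator G) x)).Coprime p := by
      revert hmem
      generalize QuotientGroup.mk' (commutator G) x = y
      intro hmem
      induction hmem using Subgroup.closure_induction with
      | mem a ha => exact ha
      | one => simp
      | mul a b _ _ ha hb =>
        exact Nat.Coprime.coprime_dvd_left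
          ((Commute.all a b).orderOf_mul_dvd_mul_orderOf) (ha.mul_left hb)
      | inv a _ ha => rwa [orderOf_inv]
    have h1 : orderOf (QuotientGroup.mk' (commutator G) x) = 1 :=
      Nat.eq_one_of_dvd_coprimes (Nat.Coprime.pow_right n hcop) dvd_rfl (orderOf_dvd_of_pow_eq_one hxn)
    exact (QuotientGroup.eq_one_iff x).1 (orderOf_eq_one_iff.1 h1)
  · intro h
    by_contra hne
    haveI : Nontrivial (G ⧸ pResidual p G) := QuotientGroup.nontrivial_iff.2 hne
    have hnil : Group.IsNilpotent (G ⧸ pResidual p G) := (isPGroup_quotient_pResidual).isNilpotent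
    have htop : commutator (G ⧸ pResidual p G) = ⊤ := by
      have hm : commutator (G ⧸ pResidual p G) = (commutator G).map (QuotientGroup.mk' (pResidual p G)) := by
        rw [_root_.commutator_def, _root_.commutator_def, map_commutator,
          map_top_of_surjective _ (QuotientGroup.mk'_surjective _)]
      rw [hm, eq_top_iff]
      intro y _
      obtain ⟨g, rfl⟩ := QuotientGroup.mk'_surjective (pResidual p G) y
      have : g ∈ (S : Subgroup G) ⊔ pResidual p G := by rw [sup_pResidual_eq_top S]; exact mem_top g
      obtain ⟨s, hs, r, hr, rfl⟩ := mem_sup_of_normal_right.1 this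
      exact ⟨s, h hs, by rw [map_mul, show QuotientGroup.mk' (pResidual p G) r = 1 from (QuotientGroup.eq_one_iff r).2 hr, mul_one]⟩
    exact (Group.IsSolvable.commutator_lt_top_of_nontrivial (G ⧸ pResidual p G)).ne htop

theorem pResidual_ne_top_aux (hp : 5 ≤ p) (N : ℕ) : ∀ {G : Type u} [Group G] [Finite G],
    Nat.card G = N → ∀ S : Sylow p G, (S : Subgroup G) ≠ ⊥ →
    (∀ g ∈ normalizer ((S : Subgroup G) : Set G), (orderOf g).Coprime p →
      g ∈ centralizer ((S : Subgroup G) : Set G)) →
    pResidual p G ≠ ⊤ := by
  induction N using Nat.strong_induction_on with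
  | _ N ih =>
  intro G _ _ hN S hS hyp hres
  have hW := isConjugacyFunctor_induced (G := G) (isCharPFunctor_kInfLower.{u} p)
  set W := inducedFunctor (G := G) Cfsg.kInfLower.{u} (S : Subgroup G) with hWdef
  have hNS : normalizer ((S : Subgroup G) : Set G) ≤ normalizer (W : Set G) :=
    normalizer_le_normalizer_functor hW S.2
  set M := normalizer (W : Set G) with hM
  have hSM : (S : Subgroup G) ≤ M := le_normalizer.trans hNS
  by_cases hMt : M = ⊤
  · haveI : W.Normal := normalizer_eq_top_iff.1 hMt
    have hWS : W ≤ (S : Subgroup G) := inducedFunctor_le _ _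
    have hWne : W ≠ ⊥ := by
      haveI : Nontrivial (S : Subgroup G) := (Subgroup.nontrivial_iff_ne_bot _).2 hS
      intro hb
      rw [hWdef, inducedFunctor, map_eq_bot_iff_of_injective _ (subtype_injective _)] at hb
      exact (isCharPFunctor_kInfLower.{u} p).1 _ S.2 inferInstance hb
    by_cases hWeq : W = (S : Subgroup G)
    · -- `S` is normal, hence central
      have hcent : (S : Subgroup G) ≤ center G := by
        intro s hs
        rw [mem_center_iff]
        intro g
        have hle : pResidual p G ≤ centralizer ({s} : Set G) := by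
          refine (closure_le _).2 fun a ha => ?_
          have haN : a ∈ normalizer ((S : Subgroup G) : Set G) := by
            rw [← hWeq, normalizer_eq_top_iff.2 inferInstance]; exact mem_top a
          exact Subgroup.mem_centralizer_singleton_iff.2 (mem_centralizer_iff.1 (hyp a haN ha) s hs).symm
        exact Subgroup.mem_centralizer_singleton_iff.1 (hle (hres ▸ mem_top g))
      have hcomp := hasNormalPComplement_of_normalizer_le_centralizer S fun g _ => mem_centralizer_iff.2
        fun s hs => (mem_center_iff.1 (hcent hs) g).symm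
      refine hS ?_
      have := (hasNormalPComplement_iff_inf_eq_bot S).1 hcomp
      rwa [hres, inf_top_eq] at this
    · have hπ := QuotientGroup.mk'_surjective W
      have hcard : Nat.card (G ⧸ W) < N := by
        rw [← hN, ← W.index_mul_card]
        exact lt_mul_of_one_lt_right (Nat.pos_of_ne_zero index_ne_zero_of_finite) ((one_lt_card_iff_ne_bot W).2 hWne)
      let S' := S.mapSurjective hπ
      have hS' : (S' : Subgroup (G ⧸ W)) ≠ ⊥ := by
        rw [Sylow.coe_mapSurjective, ne_eq, Subgroup.map_eq_bot_iff, QuotientGroup.ker_mk']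
        exact fun h => hWeq (le_antisymm hWS h)
      refine ih _ hcard rfl S' hS' ?_ ?_
      · intro q hq hcop
        obtain ⟨g, rfl⟩ := hπ q
        have hgN : g ∈ normalizer ((S : Subgroup G) : Set G) := by
          have hker : (QuotientGroup.mk' W).ker ≤ (S : Subgroup G) := by rwa [QuotientGroup.ker_mk']
          rw [← comap_map_eq_self hker, ← comap_normalizer_eq_of_surjective _ hπ, mem_comap]
          rwa [Sylow.coe_mapSurjective] at hq
        obtain ⟨a, ha, b, hb, hab, ⟨k, hk⟩, hbc⟩ := exists_pPart_mul (p := p) g
        have ha1 : QuotientGroup.mk' W a = 1 := by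
          obtain ⟨i, rfl⟩ := ha
          refine orderOf_eq_one_iff.1 (Nat.eq_one_of_dvd_coprimes (Nat.Coprime.pow_left k hcop.symm)
            ((orderOf_map_dvd _ _).trans hk) ?_)
          rw [map_zpow]
          exact orderOf_dvd_of_mem_zpowers (zpow_mem_zpowers _ _)
        have hbN : b ∈ normalizer ((S : Subgroup G) : Set G) := (zpowers_le.2 hgN) hb
        have hbC := hyp b hbN hbc
        rw [← hab, map_mul, ha1, one_mul, Sylow.coe_mapSurjective, mem_centralizer_iff]
        rintro _ ⟨s, hs, rfl⟩
        rw [← map_mul, ← map_mul, mem_centralizer_iff.1 hbC s hs]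
      · rw [← pResidual_map_of_surjective _ hπ, hres, map_top_of_surjective _ hπ]
  · have hcard : Nat.card M < N := by
      rw [← hN]
      exact lt_of_le_of_ne (Nat.card_le_card_of_injective _ M.subtype_injective)
        fun h => hMt (Subgroup.eq_top_of_card_eq M h)
    let SM := S.subtype hSM
    have hSM' : (SM : Subgroup M) ≠ ⊥ := by
      rw [Sylow.coe_subtype, ne_eq, subgroupOf_eq_bot, disjoint_iff, inf_eq_left.2 hSM]
      exact hS
    have hne : pResidual p M ≠ ⊤ := by
      refine ih _ hcard rfl SM hSM' ?_
      intro x hx hcop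
      have hxN : (x : G) ∈ normalizer ((S : Subgroup G) : Set G) := by
        rw [Sylow.coe_subtype, ← subgroupOf_normalizer_eq hSM] at hx
        exact hx
      have := hyp x hxN (by rwa [Subgroup.orderOf_coe])
      rw [mem_centralizer_iff]
      intro y hy
      exact Subtype.ext (mem_centralizer_iff.1 this y (by rw [Sylow.coe_subtype] at hy; exact hy))
    have hle := (sylow_le_commutator_iff S).1 hres
    have htr := transfer_eq_of_controls hW (kInfLower_controlsTransfer hp) S
    rw [inf_eq_left.2 hle] at htr
    refine hne ((sylow_le_commutator_iff SM).2 ?_)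
    rw [Sylow.coe_subtype]
    intro x hx
    have : (x : G) ∈ ⁅M, M⁆ := by
      have h2 : (x : G) ∈ (S : Subgroup G) ⊓ ⁅M, M⁆ := htr ▸ (mem_subgroupOf.1 hx)
      exact h2.2
    rw [← map_subtype_commutator] at this
    obtain ⟨y, hy, hyx⟩ := this
    rwa [← Subtype.ext hyx]

theorem pResidual_ne_top (hp : 5 ≤ p) {G : Type u} [Group G] [Finite G] (S : Sylow p G)
    (hS : (S : Subgroup G) ≠ ⊥)
    (hyp : ∀ g ∈ normalizer ((S : Subgroup G) : Set G), (orderOf g).Coprime p →
      g ∈ centralizer ((S : Subgroup G) : Set G)) :
    pResidual p G ≠ ⊤ :=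
  pResidual_ne_top_aux hp _ rfl S hS hyp

end CfsgLib.KInf
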