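import Cfsg.Agent.Lib.PLocal.QdBasic
import Cfsg.Agent.Lib.PLocal.QdOverField

/-!
A `Qd(p)` section gives a p-local subgroup with an `SL₂(p)` section.
-/

set_option autoImplicit false
set_option linter.style.haveILetI false

namespace CfsgLib.KInf

open Cfsg Subgroup CfsgLib.PLocal

variable {p : ℕ} [Fact p.Prime] {G : Type*} [Group G]

theorem exists_local_sl2 [Finite G] (h : InvHom ↥(qd p) G) :
    ∃ P : Subgroup G, IsPGroup p P ∧ P ≠ ⊥ ∧
      InvHom (Matrix.SpecialLinearGroup (Fin 2) (ZMod p)) ↥(normalizer (P : Set G)) := by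
  obtain ⟨K, F, hF⟩ := h
  let π : K →* Matrix.SpecialLinearGroup (Fin 2) (ZMod p) :=
    (Affine.block (F := ZMod p)).comp F
  have hπ : Function.Surjective π := fun g => by
    obtain ⟨k, hk⟩ := hF (Affine.elt 0 g)
    exact ⟨k, by show Affine.block (F k) = g; rw [hk]; exact Affine.block_elt 0 g⟩
  obtain ⟨S⟩ := (inferInstance : Nonempty (Sylow p π.ker))
  set P : Subgroup K := (S : Subgroup π.ker).map π.ker.subtype with hP
  have hPp : IsPGroup p P := S.2.map _
  have hfr : normalizer (P : Set K) ⊔ π.ker = ⊤ := Sylow.normalizer_sup_eq_top S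
  have hPne : P ≠ ⊥ := by
    intro hb
    have hS : (S : Subgroup π.ker) = ⊥ :=
      (map_eq_bot_iff_of_injective _ π.ker.subtype_injective).1 hb
    have hnd : ¬ p ∣ Nat.card π.ker := by
      have h := S.not_dvd_index
      rwa [hS, index_bot] at h
    obtain ⟨k, hk⟩ := hF (Affine.elt ![1, 0] 1)
    have hk' : k ∈ π.ker := by
      rw [MonoidHom.mem_ker]
      show Affine.block (F k) = 1
      rw [hk]; exact Affine.block_elt _ _
    have hord : orderOf (F k) ∣ Nat.card π.ker := by
      refine (orderOf_map_dvd F k).trans ?_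
      rw [show orderOf k = orderOf (⟨k, hk'⟩ : π.ker) from Subgroup.orderOf_coe ⟨k, hk'⟩]
      exact orderOf_dvd_natCard _
    have hp1 : orderOf (F k) = p := by
      refine orderOf_eq_prime ?_ ?_
      · rw [hk]
        refine (Affine.elt_pow _ _).trans ?_
        rw [show p • (![1, 0] : Fin 2 → ZMod p) = 0 from funext fun i => by simp [nsmul_eq_mul]]
        exact Affine.elt_one
      · rw [hk]
        intro h1
        exact one_ne_zero (congrFun (Affine.elt_injective (h1.trans Affine.elt_one.symm)).1 0)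
    rw [hp1] at hord
    exact hnd hord
  refine ⟨P.map K.subtype, hPp.map _, fun h => hPne ((map_eq_bot_iff_of_injective _ K.subtype_injective).1 h), ?_⟩
  let ι : ↥(normalizer (P : Set K)) →* ↥(normalizer (P.map K.subtype : Set G)) :=
    (K.subtype.comp (normalizer (P : Set K)).subtype).codRestrict _ fun x =>
      le_normalizer_map K.subtype (mem_map_of_mem _ x.2)
  have hι : Function.Injective ι := fun a b hab =>
    Subtype.ext (Subtype.ext (show ((a : K) : G) = ((b : K) : G) from congrArg (fun z : ↥(normalizer (P.map K.subtype : Set G)) => (z : G)) hab))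
  refine ⟨ι.range, (π.comp (normalizer (P : Set K)).subtype).comp (MonoidHom.ofInjective hι).symm.toMonoidHom, ?_⟩
  rw [MonoidHom.coe_comp]
  refine Function.Surjective.comp ?_ (MonoidHom.ofInjective hι).symm.surjective
  intro g
  obtain ⟨k, hk⟩ := hπ g
  have hk' : k ∈ normalizer (P : Set K) ⊔ π.ker := hfr ▸ mem_top k
  obtain ⟨a, ha, b, hb, rfl⟩ := Subgroup.mem_sup_of_normal_right.1 hk'
  refine ⟨⟨a, ha⟩, ?_⟩
  rw [← hk, map_mul, MonoidHom.mem_ker.1 hb, mul_one]
  rfl

end CfsgLib.KInf
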