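import Cfsg.Agent.Lib.KInf.Complement
import Cfsg.Agent.Lib.KInf.Fusion
import Cfsg.Agent.Lib.Techniques.StableAbelian
import Cfsg.Agent.Lib.Techniques.Invariance

/-!
A normal `p`-complement theorem from control of strong fusion in `p`-stable sections.
-/

set_option autoImplicit false
set_option linter.unusedSectionVars false

namespace CfsgLib.KInf

open Cfsg Subgroup CfsgLib.Techniques CfsgLib.Transfer
open scoped commutatorElement

universe u

variable {p : ℕ} [Fact p.Prime]

theorem residualAbelian_minimal {X : Type u} [Group X] [Finite X] {P : Sylow p X}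
    (hm : MinimalConfig p X P) : ResidualAbelianModP p X := by
  obtain ⟨K, hKn, -, htop, -, hKK, -, -, -⟩ := hm.exists_complement
  haveI := hKn
  have hR : pResidual p X ≤ K := by
    refine pResidual_le ?_
    refine (IsPGroup.iff_card (G := X ⧸ K)).1 fun x => ?_
    obtain ⟨a, rfl⟩ := QuotientGroup.mk'_surjective K x
    have ha : a ∈ ((P : Subgroup X) ⊔ K : Subgroup X) := by rw [htop]; exact mem_top a
    obtain ⟨s, hs, k, hk, rfl⟩ := Subgroup.mem_sup_of_normal_right.1 ha
    obtain ⟨i, hi⟩ := P.isPGroup' ⟨s, hs⟩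
    refine ⟨i, ?_⟩
    rw [map_mul, show QuotientGroup.mk' K k = 1 from (QuotientGroup.eq_one_iff k).2 hk, mul_one, ← map_pow,
      show s ^ p ^ i = 1 from congrArg Subtype.val hi, map_one]
  exact (CfsgLib.Base.isPGroup_pCore p X).to_le ((commutator_mono hR hR).trans hKK)

theorem sectionsStable_minimal {X : Type u} [Group X] [Finite X] {P : Sylow p X} (hp : p ≠ 2)
    (hm : MinimalConfig p X P) : SectionsSatisfy X fun Y _ => IsNormalizerPStable p Y := by
  intro Y _ K f hf
  haveI : Finite Y := Finite.of_surjective f hf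
  exact isNormalizerPStable_of_residualAbelian hp
    (residualAbelianModP_of_surjective f hf (residualAbelianModP_subgroup K (residualAbelian_minimal hm)))

theorem controlsStrongFusion_map {Y Z : Type u} [Group Y] [Group Z] [Finite Y] [Finite Z] (e : Y ≃* Z)
    {U : Subgroup Y} (h : ControlsStrongFusion p U) : ControlsStrongFusion p (U.map e.toMonoidHom) := by
  obtain ⟨T, hUT, hT⟩ := h
  have hf : Function.Surjective e.toMonoidHom := e.surjective
  refine ⟨T.mapSurjective hf, by rw [Sylow.coe_mapSurjective]; exact map_mono hUT,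
    fun A hA => ⟨hA, fun g hg => ?_⟩⟩
  rw [Sylow.coe_mapSurjective] at hA hg
  have hA' : e ⁻¹' A ⊆ ((T : Subgroup Y) : Set Y) := fun a ha => by
    obtain ⟨b, hb, he⟩ := hA ha
    exact e.injective he ▸ hb
  obtain ⟨-, h2⟩ := hT (e ⁻¹' A) hA'
  obtain ⟨x, hx, hxa⟩ := h2 (e.symm g) (by
    rintro _ ⟨a, ha, rfl⟩
    obtain ⟨b, hb, he⟩ := hg ⟨e a, ha, rfl⟩
    have heq : b = e.symm g * a * (e.symm g)⁻¹ := e.injective (by
      rw [map_mul, map_mul, map_inv, e.apply_symm_apply]
      exact he)
    show e.symm g * a * (e.symm g)⁻¹ ∈ (T : Subgroup Y)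
    rw [← heq]
    exact hb)
  refine ⟨e x, ?_, fun a ha => ?_⟩
  · rw [← Subgroup.map_equiv_normalizer_eq]
    exact mem_map_of_mem _ hx
  · have := congrArg e (hxa (e.symm a) (by simpa using ha))
    simpa using this

theorem hasNormalPComplement_of_stable_fusion {W : ∀ (Q : Type u) [Group Q], Subgroup Q}
    (hW : IsCharPFunctor.{u} p W) (hp : p ≠ 2) {G : Type u} [Group G] [Finite G] (S : Sylow p G)
    (hN : HasNormalPComplement p (normalizer (inducedFunctor W (S : Subgroup G) : Set G)))
    (hsec : SectionsSatisfy G fun X _ => (SectionsSatisfy X fun Y _ => IsNormalizerPStable p Y) →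
      ∀ T : Sylow p X, ControlsStrongFusion p (inducedFunctor (G := X) W (T : Subgroup X))) :
    HasNormalPComplement p G := by
  refine hasNormalPComplement_of_functor hW (fun X _ _ P hm hs => ?_) S hsec hN
  by_contra hn
  set U := inducedFunctor (G := X) W (P : Subgroup X) with hU
  obtain ⟨T, hUT, hT⟩ := hs.self (sectionsStable_minimal hp hm) P
  have hPU : (P : Subgroup X) ≤ normalizer (U : Set X) :=
    le_normalizer_functor (isConjugacyFunctor_induced hW) P.isPGroup'
  have hNP : normalizer (U : Set X) = (P : Subgroup X) :=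
    hm.maximal _ hPU fun h => hn (normalizer_eq_top_iff.1 h)
  have hTP : (T : Subgroup X) ≤ (P : Subgroup X) := by
    intro g hg
    obtain ⟨-, h2⟩ := hT (T : Set X) le_rfl
    obtain ⟨k, hk, hka⟩ := h2 g (by
      rintro _ ⟨a, ha, rfl⟩
      exact (T : Subgroup X).mul_mem ((T : Subgroup X).mul_mem hg ha) ((T : Subgroup X).inv_mem hg))
    have hk' : k ∈ (P : Subgroup X) := hNP ▸ hk
    have hc : k⁻¹ * g ∈ normalizer (U : Set X) := (centralizer_le_normalizer _) fun u hu => by
      have h4 := hka u (hUT hu)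
      calc u * (k⁻¹ * g) = k⁻¹ * (k * u * k⁻¹) * g := by group
        _ = k⁻¹ * (g * u * g⁻¹) * g := by rw [h4]
        _ = k⁻¹ * g * u := by group
    have := mul_mem hk' (hNP ▸ hc : k⁻¹ * g ∈ (P : Subgroup X))
    simpa using this
  have hTeq : (T : Subgroup X) = (P : Subgroup X) :=
    Subgroup.eq_of_le_of_card_ge hTP (by rw [Sylow.card_eq_multiplicity, Sylow.card_eq_multiplicity])
  refine hm.not_comp (hasNormalPComplement_of_fusion P fun x hx g hg => ?_)
  obtain ⟨-, h2⟩ := hT {x} (Set.singleton_subset_iff.2 (hTeq.ge hx))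
  obtain ⟨k, hk, hka⟩ := h2 g (by
    rintro _ ⟨a, rfl, rfl⟩
    exact hTeq.ge hg)
  exact ⟨k, hNP ▸ hk, (hka x rfl).symm⟩

end CfsgLib.KInf
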