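import Cfsg.Agent.Lib.KInf.Functor
import Cfsg.Agent.Lib.Techniques.FactorKernel
import Cfsg.Agent.Lib.Techniques.ChiefFactor
import Cfsg.Agent.Lib.Techniques.Functors
import Cfsg.Agent.Lib.Base.Cores
import Cfsg.Agent.Lib.LocalEven.CharP
import Cfsg.Prelude.Def_PLocal

/-!
Members of the K-sequence outside `O_p(G)` act quadratically (Glauberman).
-/

set_option autoImplicit false
set_option linter.unusedSectionVars false

namespace CfsgLib.KInf

open Cfsg Subgroup CfsgLib.Techniques
open scoped commutatorElement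

variable {G : Type*} [Group G] [Finite G] {p : ℕ} [Fact p.Prime]

/-- The hypotheses on a critical subgroup `A` of `O_p(G)`. -/
structure Critical (p : ℕ) (A : Subgroup G) : Prop where
  le : A ≤ pCore p G
  normal : A.Normal
  exp : ∀ a ∈ A, a ^ p ∈ A ⊓ centralizer (A : Set G)
  class2 : ⁅A, A⁆ ≤ centralizer (A : Set G)
  comm : ⁅pCore p G, A⁆ ≤ A ⊓ centralizer (A : Set G)
  faithful : ∀ c ∈ centralizer (A : Set G), (orderOf c).Coprime p → c ∈ centralizer ((pCore p G : Subgroup G) : Set G)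

/-- The conclusion about `g`. -/
def Good (p : ℕ) (A : Subgroup G) (g : G) : Prop :=
  g ∉ pCore p G ∧ iterCommutator A (zpowers g) 3 ≤ A ⊓ centralizer (A : Set G) ∧
    ⁅⁅A ⊓ centralizer (A : Set G), zpowers g⁆, zpowers g⁆ = ⊥ ∧
    (centralizer ((pCore p G : Subgroup G) : Set G) ≤ pCore p G →
      ∃ U V : Subgroup G, IsChiefFactor U V ∧ U ≤ A ∧ ⁅⁅U, zpowers g⁆, zpowers g⁆ ≤ V ∧
        ¬ ⁅U, zpowers g⁆ ≤ V)

variable {A : Subgroup G}

theorem zc_normal (h : Critical p A) : (zc A).Normal := by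
  haveI := h.normal
  infer_instance

/-- The chief factors inside `A` through `Z(A)`. -/
def Adapted (A U V : Subgroup G) : Prop := U ≤ A ∧ (U ≤ zc A ∨ zc A ≤ V)

theorem factorKer_le (h : Critical p A)
    (hc : centralizer ((pCore p G : Subgroup G) : Set G) ≤ pCore p G) :
    factorKer (Adapted A) ≤ pCore p G := by
  haveI := h.normal
  haveI := zc_normal h
  have hAp : IsPGroup p A := (CfsgLib.Base.isPGroup_pCore p G).to_le h.le
  refine CfsgLib.Base.le_pCore (isPGroup_of_pPrime_trivial fun c hcK hcp => ?_)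
  have hZ : c ∈ centralizer (zc A : Set G) := by
    refine centralizes_of_factors (Y := zc A) (Z := (⊥ : Subgroup G)) (hAp.to_le inf_le_left) bot_le hcp
      (fun y hy => ?_) fun U V hUV _ hU => hcK U V hUV ⟨hU.trans inf_le_left, Or.inl hU⟩
    rw [SetLike.mem_coe, mem_bot] at hy
    simp [hy]
  have hA : c ∈ centralizer (A : Set G) :=
    centralizes_of_factors (Y := A) (Z := zc A) hAp inf_le_left hcp hZ
      fun U V hUV hV hU => hcK U V hUV ⟨hU, Or.inr hV⟩
  have hcP : c ∈ pCore p G := hc (h.faithful c hA hcp)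
  obtain ⟨k, hk⟩ := IsPGroup.iff_orderOf.1 (CfsgLib.Base.isPGroup_pCore p G) ⟨c, hcP⟩
  rw [Subgroup.orderOf_mk] at hk
  exact orderOf_eq_one_iff.1
    (Nat.eq_one_of_dvd_coprimes (Nat.Coprime.pow_left k hcp.symm) (hk ▸ dvd_refl _) (dvd_refl _))

theorem exists_moved_factor (h : Critical p A)
    (hc : centralizer ((pCore p G : Subgroup G) : Set G) ≤ pCore p G) {g : G} (hg : g ∉ pCore p G) :
    ∃ U V : Subgroup G, IsChiefFactor U V ∧ Adapted A U V ∧ ¬ ⁅U, zpowers g⁆ ≤ V := by
  by_contra hcon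
  push Not at hcon
  refine hg (factorKer_le h hc fun U V hUV hA x hx => hcon U V hUV hA ?_)
  rw [commutator_comm]
  exact commutator_mem_commutator (mem_zpowers g) hx

/-- An element quadratic on `A/Z(A)` and on `Z(A)` is good. -/
theorem good_of_quadratic (h : Critical p A) {g : G} (hg : g ∉ pCore p G)
    (h1 : iterCommutator A (zpowers g) 3 ≤ zc A) (h2 : ⁅⁅zc A, zpowers g⁆, zpowers g⁆ = ⊥)
    (h3 : ⁅⁅A, zpowers g⁆, zpowers g⁆ ≤ zc A) : Good p A g := by
  refine ⟨hg, h1, h2, fun hc => ?_⟩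
  obtain ⟨U, V, hUV, ⟨hU, hor⟩, hne⟩ := exists_moved_factor h hc hg
  refine ⟨U, V, hUV, hU, ?_, hne⟩
  rcases hor with hor | hor
  · exact ((commutator_mono (commutator_mono hor le_rfl) le_rfl).trans h2.le).trans bot_le
  · exact ((commutator_mono (commutator_mono hU le_rfl) le_rfl).trans h3).trans hor

variable {S : Subgroup G}

/-- Assuming no good element, `A` lies in every lower family. -/
theorem mem_lower (h : Critical p A) (hno : ∀ g ∈ S, ¬ Good p A g) {Q : Subgroup G} (hQ : Q ≤ S) :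
    A ∈ kLowerStarFamily Q := by
  haveI := h.normal
  refine ⟨h.class2, by rw [normalizer_eq_top]; exact le_top, fun X hX hXQ hAX hAXX hZX => ?_⟩
  by_cases hXP : X ≤ pCore p G
  · exact (commutator_mono le_rfl hXP).trans ((commutator_comm A (pCore p G)).le.trans h.comm)
  exfalso
  obtain ⟨g, hgX, hgP⟩ := SetLike.not_le_iff_exists.1 hXP
  have hgle : zpowers g ≤ X := zpowers_le.2 hgX
  refine hno g (hQ (hXQ hgX)) (good_of_quadratic h hgP ?_ ?_ ?_)
  · refine (CfsgLib.Techniques.iterCommutator_mono le_rfl hgle 3).trans ?_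
    show ⁅⁅⁅A, X⁆, X⁆, X⁆ ≤ _
    refine le_trans ?_ bot_le
    have h1 : ⁅A, X⁆ ≤ X := by
      rw [commutator_comm]
      exact commutator_le_iff_normalizes.2 hAX
    refine (commutator_mono (commutator_mono h1 le_rfl) le_rfl).trans ?_
    exact (commutator_eq_bot_iff_le_centralizer.2 hX).le
  · exact le_bot_iff.1 ((commutator_mono (commutator_mono le_rfl hgle) hgle).trans hZX.le)
  · refine (commutator_mono (commutator_mono le_rfl hgle) hgle).trans (le_inf ?_ ?_)
    · exact (commutator_mono (commutator_le_left A X) le_rfl).trans (commutator_le_left A X)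
    · have h1 : ⁅A, X⁆ ≤ X := by
        rw [commutator_comm]
        exact commutator_le_iff_normalizes.2 hAX
      refine (commutator_mono h1 le_rfl).trans ?_
      rw [Subgroup.le_centralizer_iff]
      exact commutator_eq_bot_iff_le_centralizer.1 hAXX

/-- Assuming no good element, members of the upper families relative to subgroups containing `A`
lie in `O_p(G)`. -/
theorem upper_le (h : Critical p A) (hno : ∀ g ∈ S, ¬ Good p A g) {Q B : Subgroup G} (hAQ : A ≤ Q)
    (hBS : B ≤ S) (hB : B ∈ kUpperStarFamily Q) : B ≤ pCore p G := by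
  intro g hgB
  by_contra hgP
  have hgle : zpowers g ≤ B := zpowers_le.2 hgB
  have h1 : ⁅A, B⁆ ≤ zc B := (commutator_mono hAQ le_rfl).trans ((commutator_comm Q B).le.trans hB.2)
  have h2 : ⁅⁅A, zpowers g⁆, zpowers g⁆ = ⊥ := le_bot_iff.1 <|
    (commutator_mono ((commutator_mono le_rfl hgle).trans h1) hgle).trans
      (commutator_eq_bot_iff_le_centralizer.2 inf_le_right).le
  refine hno g (hBS hgB) (good_of_quadratic h hgP ?_ ?_ (h2.le.trans bot_le))
  · show ⁅⁅⁅A, zpowers g⁆, zpowers g⁆, zpowers g⁆ ≤ _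
    rw [h2, Subgroup.commutator_bot_left]
    exact bot_le
  · exact le_bot_iff.1 ((commutator_mono (commutator_mono inf_le_left le_rfl) le_rfl).trans h2.le)

/-- Assuming no good element, members of the lower families relative to subgroups containing `A`
lie in `O_p(G)`. -/
theorem lower_le (h : Critical p A) (hno : ∀ g ∈ S, ¬ Good p A g) {Q B : Subgroup G} (hAQ : A ≤ Q)
    (hBS : B ≤ S) (hB : B ∈ kLowerStarFamily Q) : B ≤ pCore p G := by
  classical
  haveI := h.normal
  haveI := zc_normal h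
  by_contra hBP
  set P := pCore p G with hP
  have hB2 : ⁅B, B⁆ ≤ centralizer (B : Set G) := hB.1
  have hAB : A ≤ normalizer (B : Set G) := hAQ.trans hB.2.1
  have hABB : ⁅A, B⁆ ≤ B := by
    rw [commutator_comm]
    exact commutator_le_iff_normalizes.2 hAB
  have hA3 : ⁅⁅⁅A, B⁆, B⁆, B⁆ = ⊥ := le_bot_iff.1 <|
    (commutator_mono (commutator_mono hABB le_rfl) le_rfl).trans (commutator_eq_bot_iff_le_centralizer.2 hB2).le
  -- the centre of `B` lies in `O_p`
  have hZBn : A ≤ normalizer (zc B : Set G) :=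
    le_normalizer_inf hAB (hAB.trans (CfsgLib.LocalEven.normalizer_le_normalizer_centralizer _))
  have hZB : zc B ≤ P := by
    intro g hg
    by_contra hgP
    have hgle : zpowers g ≤ zc B := zpowers_le.2 hg
    have h1 : ⁅A, zc B⁆ ≤ zc B := by
      rw [commutator_comm]
      exact commutator_le_iff_normalizes.2 hZBn
    have h2 : ⁅⁅A, zpowers g⁆, zpowers g⁆ = ⊥ := le_bot_iff.1 <|
      (commutator_mono ((commutator_mono le_rfl hgle).trans (h1.trans inf_le_right)) (hgle.trans inf_le_left)).trans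
        (commutator_eq_bot_iff_le_centralizer.2 le_rfl).le
    refine hno g (hBS hg.1) (good_of_quadratic h hgP ?_ ?_ (h2.le.trans bot_le))
    · show ⁅⁅⁅A, zpowers g⁆, zpowers g⁆, zpowers g⁆ ≤ _
      rw [h2, Subgroup.commutator_bot_left]
      exact bot_le
    · exact le_bot_iff.1 ((commutator_mono (commutator_mono inf_le_left le_rfl) le_rfl).trans h2.le)
  -- tests inside `A`
  have htest : ∀ X : Subgroup G, X ≤ A → B ≤ normalizer (X : Set G) → ⁅X, X⁆ ≤ centralizer (B : Set G) →
      ⁅⁅X, B⁆, B⁆ = ⊥ := by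
    intro X hXA hBX hXX
    have h1 : ⁅B, X⁆ ≤ zc B := by
      refine hB.2.2 X ((commutator_mono hXA hXA).trans (h.class2.trans (centralizer_le hXA))) (hXA.trans hAQ) hBX ?_ ?_
      · rw [commutator_comm]
        exact commutator_eq_bot_iff_le_centralizer.2 hXX
      · refine le_bot_iff.1 (((commutator_mono (commutator_mono hZB hXA) hXA).trans
          ((commutator_mono h.comm le_rfl).trans ?_)))
        exact (commutator_eq_bot_iff_le_centralizer.2 inf_le_right).le
    rw [commutator_comm X B]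
    exact le_bot_iff.1 ((commutator_mono h1 le_rfl).trans (commutator_eq_bot_iff_le_centralizer.2 inf_le_right).le)
  have hZA : ⁅⁅zc A, B⁆, B⁆ = ⊥ := htest (zc A) inf_le_left (by rw [normalizer_eq_top]; exact le_top)
    ((commutator_eq_bot_iff_le_centralizer.2
      (show zc A ≤ centralizer (zc A : Set G) from fun x hx y hy => hx.2 y hy.1)).le.trans bot_le)
  obtain ⟨b₀, hb₀, hb₀P⟩ := SetLike.not_le_iff_exists.1 hBP
  have hgood : ∀ g ∈ B, g ∉ P → centralizer (P : Set G) ≤ P ∧ ∀ U V : Subgroup G, IsChiefFactor U V →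
      U ≤ A → ⁅⁅U, zpowers g⁆, zpowers g⁆ ≤ V → ⁅U, zpowers g⁆ ≤ V := by
    intro g hgB hgP
    have hgle : zpowers g ≤ B := zpowers_le.2 hgB
    have hw : ¬ Good p A g := hno g (hBS hgB)
    unfold Good at hw
    push Not at hw
    refine hw hgP ?_ ?_
    · refine (CfsgLib.Techniques.iterCommutator_mono le_rfl hgle 3).trans ?_
      show ⁅⁅⁅A, B⁆, B⁆, B⁆ ≤ _
      rw [hA3]
      exact bot_le
    · exact le_bot_iff.1 ((commutator_mono (commutator_mono le_rfl hgle) hgle).trans hZA.le)
  have hc := (hgood b₀ hb₀ hb₀P).1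
  -- `B` centralizes the chief factors inside `Z(A)`
  set K0 := factorKer (fun U _ : Subgroup G => U ≤ zc A) with hK0
  have hBK0 : B ≤ K0 := by
    have h1 : ∀ g ∈ B, g ∉ P → g ∈ K0 := fun g hg hgP U V hUV hU x hx => by
      have h2 := (hgood g hg hgP).2 U V hUV (hU.trans inf_le_left)
        (((commutator_mono (commutator_mono hU (zpowers_le.2 hg)) (zpowers_le.2 hg)).trans hZA.le).trans bot_le)
      refine h2 ?_
      rw [commutator_comm]
      exact commutator_mem_commutator (mem_zpowers g) hx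
    intro b hb
    by_cases hbP : b ∈ P
    · have h2 : b * b₀ ∉ P := fun h' => hb₀P (by simpa using P.mul_mem (P.inv_mem hbP) h')
      have := K0.mul_mem (h1 _ (B.mul_mem hb hb₀) h2) (K0.inv_mem (h1 b₀ hb₀ hb₀P))
      simpa using this
    · exact h1 b hb hbP
  set R := Subgroup.normalClosure {c : G | c ∈ K0 ∧ (orderOf c).Coprime p} with hR
  have hAp : IsPGroup p A := (CfsgLib.Base.isPGroup_pCore p G).to_le h.le
  have hRK : R ≤ K0 := normalClosure_le_normal fun c hc => hc.1
  have hRZ : R ≤ centralizer (zc A : Set G) := by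
    refine normalClosure_le_normal fun c hc => ?_
    refine centralizes_of_factors (Y := zc A) (Z := (⊥ : Subgroup G)) (hAp.to_le inf_le_left) bot_le hc.2
      (fun y hy => ?_) fun U V hUV _ hU => hc.1 U V hUV hU
    rw [SetLike.mem_coe, mem_bot] at hy
    simp [hy]
  have hKR : IsPGroup p (K0.map (QuotientGroup.mk' R)) := by
    refine isPGroup_of_pPrime_trivial ?_
    rintro _ ⟨k, hk, rfl⟩ hcp
    obtain ⟨a, m, hm, hord⟩ := Nat.exists_eq_pow_mul_and_not_dvd (orderOf_pos k).ne' p
      (Fact.out : p.Prime).ne_one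
    have hkR : k ^ p ^ a ∈ R := by
      refine subset_normalClosure ⟨pow_mem hk _, ?_⟩
      refine Nat.Coprime.coprime_dvd_left (orderOf_dvd_of_pow_eq_one (n := m) ?_)
        ((Nat.Prime.coprime_iff_not_dvd Fact.out).2 hm).symm
      rw [← pow_mul, ← hord, pow_orderOf_eq_one]
    have h2 : QuotientGroup.mk' R k ^ p ^ a = 1 := by
      rw [← map_pow]
      exact (QuotientGroup.eq_one_iff _).2 hkR
    exact orderOf_eq_one_iff.1
      (Nat.eq_one_of_dvd_coprimes (Nat.Coprime.pow_left a hcp.symm) (orderOf_dvd_of_pow_eq_one h2) (dvd_refl _))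
  -- the subgroup `N`
  let N : Subgroup G :=
    { carrier := {a | a ∈ A ∧ ∀ x ∈ A, ⁅a, x⁆ ∈ centralizer (B : Set G)}
      one_mem' := ⟨A.one_mem, fun x _ => by simp⟩
      mul_mem' := fun {a b} ha hb => ⟨A.mul_mem ha.1 hb.1, fun x hx => by
        have h1 : ⁅b, x⁆ * a = a * ⁅b, x⁆ := (h.class2 (commutator_mem_commutator hb.1 hx) a ha.1).symm
        rw [show ⁅a * b, x⁆ = a * ⁅b, x⁆ * a⁻¹ * ⁅a, x⁆ by simp only [commutatorElement_def]; group,
          ← h1, mul_inv_cancel_right]
        exact mul_mem (hb.2 x hx) (ha.2 x hx)⟩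
      inv_mem' := fun {a} ha => ⟨A.inv_mem ha.1, fun x hx => by
        have h1 : a * ⁅a, x⁆ = ⁅a, x⁆ * a := h.class2 (commutator_mem_commutator ha.1 hx) a ha.1
        have h3 : a * ⁅a, x⁆⁻¹ = ⁅a, x⁆⁻¹ * a := ((show Commute a ⁅a, x⁆ from h1).inv_right).eq
        rw [show ⁅a⁻¹, x⁆ = a⁻¹ * ⁅a, x⁆⁻¹ * a by simp only [commutatorElement_def]; group,
          mul_assoc, ← h3, inv_mul_cancel_left]
        exact inv_mem (ha.2 x hx)⟩ }
  have hNA : N ≤ A := fun _ ha => ha.1
  have hBA : B ≤ normalizer (A : Set G) := by rw [normalizer_eq_top]; exact le_top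
  have hHN : R ⊔ B ≤ normalizer (N : Set G) := by
    have key : ∀ r : G, (∀ y ∈ centralizer (B : Set G), y ∈ zc A → r * y * r⁻¹ ∈ centralizer (B : Set G)) →
        cj r N ≤ N := by
      intro r hr
      rw [cj_le_iff]
      intro a ha
      refine ⟨h.normal.conj_mem a ha.1 r, fun x hx => ?_⟩
      have hx' : r⁻¹ * x * r ∈ A := by simpa using h.normal.conj_mem x hx r⁻¹
      have h1 := hr _ (ha.2 _ hx') ⟨commutator_le_self A (commutator_mem_commutator ha.1 hx'),
        h.class2 (commutator_mem_commutator ha.1 hx')⟩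
      rwa [show r * ⁅a, r⁻¹ * x * r⁆ * r⁻¹ = ⁅r * a * r⁻¹, x⁆ by simp only [commutatorElement_def]; group] at h1
    refine sup_le (fun r hr => ?_) fun b hb => ?_
    · refine mem_normalizer_iff_cj.2 (Subgroup.eq_of_le_of_card_ge (key r fun y hy hyZ => ?_) (card_cj r N).ge)
      rw [← hRZ hr y hyZ, mul_inv_cancel_right]
      exact hy
    · refine mem_normalizer_iff_cj.2 (Subgroup.eq_of_le_of_card_ge (key b fun y hy _ => ?_) (card_cj b N).ge)
      rw [hy b hb, mul_inv_cancel_right]
      exact hy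
  have hNBB : ⁅⁅N, B⁆, B⁆ = ⊥ :=
    htest N hNA (le_sup_right.trans hHN) (commutator_le.2 fun a ha b hb => ha.2 b (hNA hb))
  have hABN : ⁅⁅A, B⁆, B⁆ ≤ N := by
    have h1 : ⁅⁅A, B⁆, B⁆ ≤ A := (commutator_mono (commutator_le_left A B) le_rfl).trans (commutator_le_left A B)
    have h2 : ⁅⁅A, B⁆, B⁆ ≤ ⁅B, B⁆ := commutator_mono hABB le_rfl
    have h4 : A ≤ normalizer ((⁅B, B⁆ : Subgroup G) : Set G) :=
      le_normalizer_iff_cj.2 fun a ha => by rw [cj_commutator, le_normalizer_iff_cj.1 hAB a ha]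
    intro d hd
    exact ⟨h1 hd, fun a ha =>
      hB2 (commutator_le_iff_normalizes.2 h4 (commutator_mem_commutator (h2 hd) ha))⟩
  -- quadratic action on the chief factors above `Z(A)`
  have hquad : ∀ U V : Subgroup G, IsChiefFactor U V → U ≤ A → zc A ≤ V → ⁅⁅U, B⁆, B⁆ ≤ V := by
    intro U V hUV hU hV
    haveI := hUV.2.1
    haveI := hUV.2.2.1
    have hUU : ⁅U, U⁆ ≤ V := (commutator_mono hU hU).trans
      ((le_inf (commutator_le_self A) h.class2).trans hV)
    have hCR := sectionCR_of_pQuotient hUV hUU hKR (le_sup_left : R ≤ R ⊔ B) (sup_le hRK hBK0)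
    set W := V ⊔ (U ⊓ N) with hW
    have hnU : R ⊔ B ≤ normalizer (U : Set G) := by rw [normalizer_eq_top]; exact le_top
    have hnV : R ⊔ B ≤ normalizer (V : Set G) := by rw [normalizer_eq_top]; exact le_top
    obtain ⟨W', hVW', hW'U, hW'n, hi, hs⟩ := hCR W le_sup_left (sup_le hUV.1.le inf_le_left)
      (le_normalizer_sup hnV (le_normalizer_inf hnU hHN))
    have hW'B : ⁅W', B⁆ ≤ W' := commutator_le_iff_normalizes.2 (le_sup_right.trans hW'n)
    have h1 : ⁅⁅W', B⁆, B⁆ ≤ V := by
      rw [← hi]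
      refine le_inf ?_ ((commutator_mono hW'B le_rfl).trans hW'B)
      refine le_trans (le_inf ?_ ?_) (le_sup_right : U ⊓ N ≤ W)
      · exact (commutator_mono (commutator_mono hW'U le_rfl) le_rfl).trans
          ((commutator_mono (commutator_le_left U B) le_rfl).trans (commutator_le_left U B))
      · exact (commutator_mono (commutator_mono (hW'U.trans hU) le_rfl) le_rfl).trans hABN
    -- the elements `u` with `[u, B, B] ⊆ V`
    let T : Subgroup G :=
      { carrier := {u | u ∈ U ∧ ∀ b ∈ B, ∀ b' ∈ B, ⁅b', ⁅b, u⁆⁆ ∈ V}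
        one_mem' := ⟨U.one_mem, fun b _ b' _ => by simp⟩
        mul_mem' := fun {u u'} hu hu' => ⟨U.mul_mem hu.1 hu'.1, fun b hb b' hb' => by
          have hq : ∀ z, z ∈ V ↔ QuotientGroup.mk' V z = 1 := fun z => (QuotientGroup.eq_one_iff z).symm
          have hUc : ∀ x ∈ U, ∀ y ∈ U, Commute (QuotientGroup.mk' V x) (QuotientGroup.mk' V y) := fun x hx y hy => by
            rw [← commutatorElement_eq_one_iff_commute, ← map_commutatorElement, ← hq]
            exact hUU (commutator_mem_commutator hx hy)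
          have hbu : ∀ b ∈ B, ∀ x ∈ U, ⁅b, x⁆ ∈ U := fun b _ x hx => by
            rw [commutatorElement_def]; exact mul_mem (hUV.2.1.conj_mem x hx b) (inv_mem hx)
          have h1 : QuotientGroup.mk' V ⁅b, u * u'⁆ = QuotientGroup.mk' V (⁅b, u⁆ * ⁅b, u'⁆) := by
            rw [show ⁅b, u * u'⁆ = ⁅b, u⁆ * (u * ⁅b, u'⁆ * u⁻¹) by simp only [commutatorElement_def]; group,
              map_mul, map_mul, map_mul, map_inv,
              (hUc u hu.1 _ (hbu b hb _ hu'.1)).eq, mul_inv_cancel_right, map_mul]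
          rw [hq, map_commutatorElement, h1, ← map_commutatorElement,
            show ⁅b', ⁅b, u⁆ * ⁅b, u'⁆⁆ = ⁅b', ⁅b, u⁆⁆ * (⁅b, u⁆ * ⁅b', ⁅b, u'⁆⁆ * ⁅b, u⁆⁻¹) by
              simp only [commutatorElement_def]; group, ← hq]
          exact mul_mem (hu.2 b hb b' hb') (hUV.2.2.1.conj_mem _ (hu'.2 b hb b' hb') _)⟩
        inv_mem' := fun {u} hu => ⟨U.inv_mem hu.1, fun b hb b' hb' => by
          have hq : ∀ z, z ∈ V ↔ QuotientGroup.mk' V z = 1 := fun z => (QuotientGroup.eq_one_iff z).symm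
          have hbu : ⁅b, u⁆ ∈ U := by
            rw [commutatorElement_def]; exact mul_mem (hUV.2.1.conj_mem u hu.1 b) (inv_mem hu.1)
          have hc : Commute (QuotientGroup.mk' V u) (QuotientGroup.mk' V ⁅b, u⁆⁻¹) := by
            rw [← commutatorElement_eq_one_iff_commute, ← map_commutatorElement, ← hq]
            exact hUU (commutator_mem_commutator hu.1 (inv_mem hbu))
          have h1 : QuotientGroup.mk' V ⁅b, u⁻¹⁆ = QuotientGroup.mk' V (⁅b, u⁆⁻¹) := by
            rw [show ⁅b, u⁻¹⁆ = u⁻¹ * ⁅b, u⁆⁻¹ * u by simp only [commutatorElement_def]; group, map_mul,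
              map_mul, map_inv, mul_assoc, ← hc.eq, inv_mul_cancel_left]
          rw [hq, map_commutatorElement, h1, ← map_commutatorElement,
            show ⁅b', ⁅b, u⁆⁻¹⁆ = ⁅b, u⁆⁻¹ * ⁅b', ⁅b, u⁆⁆⁻¹ * ⁅b, u⁆⁻¹⁻¹ by
              simp only [commutatorElement_def]; group, ← hq]
          exact hUV.2.2.1.conj_mem _ (inv_mem (hu.2 b hb b' hb')) _⟩ }
    have hUT : U ≤ T := by
      rw [← hs]
      refine sup_le (sup_le (fun v hv => ⟨hUV.1.le hv, fun b _ b' _ => ?_⟩) fun x hx => ⟨hx.1, fun b hb b' hb' => ?_⟩)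
        fun x hx => ⟨hW'U hx, fun b hb b' hb' => ?_⟩
      · exact commutator_le_right ⊤ V (commutator_mem_commutator (mem_top _)
          (commutator_le_right ⊤ V (commutator_mem_commutator (mem_top _) hv)))
      · have h3 : ⁅b', ⁅b, x⁆⁆ ∈ ⁅⁅N, B⁆, B⁆ := by
          rw [commutator_comm, commutator_comm N B]
          exact commutator_mem_commutator hb' (commutator_mem_commutator hb hx.2)
        rw [hNBB, mem_bot] at h3
        rw [h3]
        exact one_mem V
      · refine h1 ?_
        rw [commutator_comm, commutator_comm W' B]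
        exact commutator_mem_commutator hb' (commutator_mem_commutator hb hx)
    have h2 : ∀ b ∈ B, ⁅U, zpowers b⁆ ≤ ⁅U, B⁆ := fun b hb => commutator_mono le_rfl (zpowers_le.2 hb)
    rw [commutator_comm]
    refine commutator_le.2 fun b' hb' y hy => ?_
    -- `[U, B]` is generated by elements of `T`'s defining form
    let D : Subgroup G :=
      { carrier := {y | y ∈ U ∧ ⁅b', y⁆ ∈ V}
        one_mem' := ⟨U.one_mem, by simp⟩
        mul_mem' := fun {y y'} hy hy' => ⟨U.mul_mem hy.1 hy'.1, by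
          rw [show ⁅b', y * y'⁆ = ⁅b', y⁆ * (y * ⁅b', y'⁆ * y⁻¹) by simp only [commutatorElement_def]; group]
          exact mul_mem hy.2 (hUV.2.2.1.conj_mem _ hy'.2 _)⟩
        inv_mem' := fun {y} hy => ⟨U.inv_mem hy.1, by
          rw [show ⁅b', y⁻¹⁆ = y⁻¹ * ⁅b', y⁆⁻¹ * y⁻¹⁻¹ by simp only [commutatorElement_def]; group]
          exact hUV.2.2.1.conj_mem _ (inv_mem hy.2) _⟩ }
    have hyD : ⁅U, B⁆ ≤ D := by
      rw [commutator_comm]
      exact commutator_le.2 fun b hb u hu => ⟨commutator_le_right ⊤ U (commutator_mem_commutator (mem_top b) hu),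
        (hUT hu).2 b hb b' hb'⟩
    exact (hyD hy).2
  obtain ⟨U, V, hUV, ⟨hU, hor⟩, hne⟩ := exists_moved_factor h hc hb₀P
  have hb0le : zpowers b₀ ≤ B := zpowers_le.2 hb₀
  refine hne ((hgood b₀ hb₀ hb₀P).2 U V hUV hU ?_)
  rcases hor with hor | hor
  · exact ((commutator_mono (commutator_mono hor hb0le) hb0le).trans hZA.le).trans bot_le
  · exact (commutator_mono (commutator_mono le_rfl hb0le) hb0le).trans (hquad U V hUV hU hor)

/-- Assuming no good element, all terms of the K-sequence lie in `O_p(G)`. -/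
theorem terms_le (h : Critical p A) (hAS : A ≤ S) (hPS : pCore p G ≤ S) (hno : ∀ g ∈ S, ¬ Good p A g) (n : ℕ) :
    (kSeqEven S n).map S.subtype ≤ pCore p G ∧ (kSeqOdd S (n + 1)).map S.subtype ≤ pCore p G := by
  haveI := h.normal
  have hinj := S.subtype_injective
  have hsub : (A.subgroupOf S).map S.subtype = A := map_subgroupOf_eq_of_le hAS
  have hmapS : ∀ Q : Subgroup S, Q.map S.subtype ≤ S := fun Q => map_subtype_le Q
  have heven : ∀ n, A ≤ (kSeqOdd S n).map S.subtype →
      (kSeqEven S n).map S.subtype ≤ pCore p G ∧ A ≤ (kSeqEven S n).map S.subtype := by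
    intro n hn
    unfold kSeqEven
    rw [map_sSup_lower hinj]
    exact ⟨sSup_le fun B hB => lower_le h hno hn (hB.2.trans S.range_subtype.le) hB.1,
      le_sSup ⟨mem_lower h hno (hmapS _), by rw [S.range_subtype]; exact hAS⟩⟩
  have hodd : ∀ n, A ≤ (kSeqOdd S n).map S.subtype := by
    intro n
    induction n with
    | zero =>
      show A ≤ (⊤ : Subgroup S).map S.subtype
      rw [← MonoidHom.range_eq_map, S.range_subtype]
      exact hAS
    | succ n ih =>
      obtain ⟨h1, -⟩ := heven n ih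
      show A ≤ (sSup (kUpperStarFamily (kSeqEven S n))).map S.subtype
      rw [map_sSup_upper hinj]
      refine le_sSup ⟨⟨h.class2, ?_⟩, by rw [S.range_subtype]; exact hAS⟩
      exact (commutator_mono le_rfl h1).trans ((commutator_comm A (pCore p G)).le.trans h.comm)
  refine ⟨(heven n (hodd n)).1, ?_⟩
  show (sSup (kUpperStarFamily (kSeqEven S n))).map S.subtype ≤ _
  rw [map_sSup_upper hinj]
  exact sSup_le fun B hB => upper_le h hno (heven n (hodd n)).2 (hB.2.trans S.range_subtype.le) hB.1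

end CfsgLib.KInf
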